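import Cfsg.Agent.H894.ThLine.Rp

/-!
# Degrees of the Thompson group from the lines (helper894)

The collapsed collinearity matrix of the lines (eleven orbits) and its simple eigenvalues.
-/

set_option autoImplicit false
set_option maxRecDepth 100000
set_option maxHeartbeats 4000000

namespace Cfsg.Agent.H894.ThLine

open Cfsg

/-- the collapsed matrix -/
def MT : Fin 11 → Fin 11 → ℕ := ![
  ![31, 248, 0, 0, 0, 0, 0, 0, 0, 0, 0],
  ![1, 38, 240, 0, 0, 0, 0, 0, 0, 0, 0],
  ![0, 1, 38, 112, 128, 0, 0, 0, 0, 0, 0],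
  ![0, 0, 1, 38, 0, 144, 48, 48, 0, 0, 0],
  ![0, 0, 3, 0, 52, 42, 56, 126, 0, 0, 0],
  ![0, 0, 0, 9, 1, 138, 20, 48, 57, 3, 3],
  ![0, 0, 0, 9, 4, 60, 80, 72, 54, 0, 0],
  ![0, 0, 0, 5, 5, 80, 40, 86, 61, 1, 1],
  ![0, 0, 0, 0, 0, 95, 30, 61, 91, 1, 1],
  ![0, 0, 0, 0, 0, 155, 0, 31, 31, 31, 31],
  ![0, 0, 0, 0, 0, 155, 0, 31, 31, 31, 31]]

theorem Mx_eq : ∀ i j, cov.Mx i j = MT i j := by decide +kernel

theorem sum11 {R : Type*} [AddCommMonoid R] (f : Fin 11 → R) :
    ∑ j, f j = f 0 + f 1 + f 2 + f 3 + f 4 + f 5 + f 6 + f 7 + f 8 + f 9 + f 10 := by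
  rw [Fin.sum_univ_castSucc, Fin.sum_univ_castSucc, Fin.sum_univ_castSucc, Fin.sum_univ_eight]
  rfl

theorem row0 (w : Fin 11 → ℂ) (t : ℂ) (h : ∑ j, (cov.Mx 0 j : ℂ) * w j = t * w 0) :
    31 * w 0 + 248 * w 1 = t * w 0 := by
  simp only [Mx_eq, sum11] at h
  simpa [MT] using h

theorem row1 (w : Fin 11 → ℂ) (t : ℂ) (h : ∑ j, (cov.Mx 1 j : ℂ) * w j = t * w 1) :
    w 0 + 38 * w 1 + 240 * w 2 = t * w 1 := by
  simp only [Mx_eq, sum11] at h
  simpa [MT] using h

theorem row2 (w : Fin 11 → ℂ) (t : ℂ) (h : ∑ j, (cov.Mx 2 j : ℂ) * w j = t * w 2) :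
    w 1 + 38 * w 2 + 112 * w 3 + 128 * w 4 = t * w 2 := by
  simp only [Mx_eq, sum11] at h
  simpa [MT] using h

theorem row3 (w : Fin 11 → ℂ) (t : ℂ) (h : ∑ j, (cov.Mx 3 j : ℂ) * w j = t * w 3) :
    w 2 + 38 * w 3 + 144 * w 5 + 48 * w 6 + 48 * w 7 = t * w 3 := by
  simp only [Mx_eq, sum11] at h
  simpa [MT] using h

theorem row4 (w : Fin 11 → ℂ) (t : ℂ) (h : ∑ j, (cov.Mx 4 j : ℂ) * w j = t * w 4) :
    3 * w 2 + 52 * w 4 + 42 * w 5 + 56 * w 6 + 126 * w 7 = t * w 4 := by
  simp only [Mx_eq, sum11] at h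
  simpa [MT] using h

theorem row5 (w : Fin 11 → ℂ) (t : ℂ) (h : ∑ j, (cov.Mx 5 j : ℂ) * w j = t * w 5) :
    9 * w 3 + w 4 + 138 * w 5 + 20 * w 6 + 48 * w 7 + 57 * w 8 + 3 * w 9 + 3 * w 10 = t * w 5 := by
  simp only [Mx_eq, sum11] at h
  simpa [MT] using h

theorem row6 (w : Fin 11 → ℂ) (t : ℂ) (h : ∑ j, (cov.Mx 6 j : ℂ) * w j = t * w 6) :
    9 * w 3 + 4 * w 4 + 60 * w 5 + 80 * w 6 + 72 * w 7 + 54 * w 8 = t * w 6 := by
  simp only [Mx_eq, sum11] at h
  simpa [MT] using h

theorem row7 (w : Fin 11 → ℂ) (t : ℂ) (h : ∑ j, (cov.Mx 7 j : ℂ) * w j = t * w 7) :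
    5 * w 3 + 5 * w 4 + 80 * w 5 + 40 * w 6 + 86 * w 7 + 61 * w 8 + w 9 + w 10 = t * w 7 := by
  simp only [Mx_eq, sum11] at h
  simpa [MT] using h

theorem row8 (w : Fin 11 → ℂ) (t : ℂ) (h : ∑ j, (cov.Mx 8 j : ℂ) * w j = t * w 8) :
    95 * w 5 + 30 * w 6 + 61 * w 7 + 91 * w 8 + w 9 + w 10 = t * w 8 := by
  simp only [Mx_eq, sum11] at h
  simpa [MT] using h

theorem row9 (w : Fin 11 → ℂ) (t : ℂ) (h : ∑ j, (cov.Mx 9 j : ℂ) * w j = t * w 9) :
    155 * w 5 + 31 * w 7 + 31 * w 8 + 31 * w 9 + 31 * w 10 = t * w 9 := by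
  simp only [Mx_eq, sum11] at h
  simpa [MT] using h

theorem row10 (w : Fin 11 → ℂ) (t : ℂ) (h : ∑ j, (cov.Mx 10 j : ℂ) * w j = t * w 10) :
    155 * w 5 + 31 * w 7 + 31 * w 8 + 31 * w 9 + 31 * w 10 = t * w 10 := by
  simp only [Mx_eq, sum11] at h
  simpa [MT] using h

/-- the degree from a table of vectors -/
theorem deg_of (θ : ℕ → ℤ) (v : ℕ → Fin 11 → ℤ) (t : ℤ) (N : ℕ) (p : ℤ)
    (hv0 : ∀ i, v 0 i = if i = 0 then 1 else 0)
    (hv : ∀ s < 8, ∀ i, v (s + 1) i = ∑ j, (MT i j : ℤ) * v s j - θ s * v s i)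
    (ht : ∀ i, ∑ j, (MT i j : ℤ) * v 8 j = t * v 8 i) (hne : v 8 0 ≠ 0) (hp : p ≠ 0)
    (hpp : ∏ s ∈ Finset.range 8, (t - θ s) = p) (hN : p * N = 283599225 * v 8 0)
    (huniq : ∀ w : Fin 11 → ℂ, (∀ i, ∑ j, (cov.Mx i j : ℂ) * w j = t * w i) → ∀ i, (v 8 0 : ℂ) * w i = w 0 * v 8 i) :
    ∃ (χ : IrrCharacter TG) (d : ℕ), charDegree (χ : TG → ℂ) = d * N := by
  obtain ⟨χ, d, h⟩ := cov.degree θ v 8 t hv0 (fun s hs i => by simp only [Mx_eq]; exact hv s hs i)
    (fun i => by simp only [Mx_eq]; exact ht i) hne huniq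
  refine ⟨χ, d, ?_⟩
  have hz : v 8 cov.z = v 8 0 := rfl
  rw [card_DD, Cfsg.Agent.Th.Final.card_Th, hpp, hz] at h
  have h2 : (charDegree (χ : TG → ℂ) : ℤ) * (319979520 * p) = (d * N : ℤ) * (319979520 * p) := by
    have h3 : (d : ℤ) * (90745943887872000 : ℕ) * v 8 0 = d * 319979520 * (283599225 * v 8 0) := by push_cast; ring
    rw [h3, ← hN] at h
    push_cast at h
    linear_combination h
  have h4 := mul_right_cancel₀ (mul_ne_zero (by norm_num) hp) h2
  exact_mod_cast h4

/-- vectors for the eigenvalue 45 -/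
def vL45 : List (List ℤ) := [
  [1, 0, 0, 0, 0, 0, 0, 0, 0, 0, 0],
  [31, 1, 0, 0, 0, 0, 0, 0, 0, 0, 0],
  [775, 55, 1, 0, 0, 0, 0, 0, 0, 0, 0],
  [23715, 2115, 75, 1, 3, 0, 0, 0, 0, 0, 0],
  [548235, 58635, 3211, 83, 291, 12, 21, 20, 0, 0, 0],
  [1932075, 380715, 53803, 5579, 13251, 3426, 4617, 4310, 2990, 2480, 2480],
  [19066395, 2661915, 979995, 797115, 868395, 780960, 826725, 809220, 794640, 737490, 737490],
  [-464762385, 115845615, 152133615, 150513615, 150999615, 150624990, 150412365, 150584490, 150624990, 150118740, 150118740],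
  [143990784000, 8128512000, -362880000, 16200000, -97524000, -9861750, 39892500, -384750, -9861750, 108600750, 108600750]]

/-- vectors for the eigenvalue 45 -/
def v45 (s : ℕ) (i : Fin 11) : ℤ := (vL45.getD s []).getD i 0

/-- the other eigenvalues -/
def θ45 (s : ℕ) : ℤ := ([0, 14, 18, 30, 54, 70, 90, 279] : List ℤ).getD s 0

theorem uniq45 (w : Fin 11 → ℂ) (h : ∀ i, ∑ j, (cov.Mx i j : ℂ) * w j = (45 : ℤ) * w i) :
    ∀ i, (v45 8 0 : ℂ) * w i = w 0 * v45 8 i := by
  have r0 := row0 w _ (h 0)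
  have r1 := row1 w _ (h 1)
  have r2 := row2 w _ (h 2)
  have r3 := row3 w _ (h 3)
  have r4 := row4 w _ (h 4)
  have r5 := row5 w _ (h 5)
  have r6 := row6 w _ (h 6)
  have r7 := row7 w _ (h 7)
  have r8 := row8 w _ (h 8)
  have r9 := row9 w _ (h 9)
  have r10 := row10 w _ (h 10)
  push_cast at r0 r1 r2 r3 r4 r5 r6 r7 r8 r9 r10
  have e0 : (v45 8 0 : ℂ) = 143990784000 := by
    have : v45 8 0 = 143990784000 := by decide +kernel
    rw [this]; norm_num
  have e1 : (v45 8 1 : ℂ) = 8128512000 := by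
    have : v45 8 1 = 8128512000 := by decide +kernel
    rw [this]; norm_num
  have e2 : (v45 8 2 : ℂ) = -362880000 := by
    have : v45 8 2 = -362880000 := by decide +kernel
    rw [this]; norm_num
  have e3 : (v45 8 3 : ℂ) = 16200000 := by
    have : v45 8 3 = 16200000 := by decide +kernel
    rw [this]; norm_num
  have e4 : (v45 8 4 : ℂ) = -97524000 := by
    have : v45 8 4 = -97524000 := by decide +kernel
    rw [this]; norm_num
  have e5 : (v45 8 5 : ℂ) = -9861750 := by
    have : v45 8 5 = -9861750 := by decide +kernel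
    rw [this]; norm_num
  have e6 : (v45 8 6 : ℂ) = 39892500 := by
    have : v45 8 6 = 39892500 := by decide +kernel
    rw [this]; norm_num
  have e7 : (v45 8 7 : ℂ) = -384750 := by
    have : v45 8 7 = -384750 := by decide +kernel
    rw [this]; norm_num
  have e8 : (v45 8 8 : ℂ) = -9861750 := by
    have : v45 8 8 = -9861750 := by decide +kernel
    rw [this]; norm_num
  have e9 : (v45 8 9 : ℂ) = 108600750 := by
    have : v45 8 9 = 108600750 := by decide +kernel
    rw [this]; norm_num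
  have e10 : (v45 8 10 : ℂ) = 108600750 := by
    have : v45 8 10 = 108600750 := by decide +kernel
    rw [this]; norm_num
  intro i
  fin_cases i
  · show (v45 8 0 : ℂ) * w 0 = w 0 * v45 8 0
    ring
  · show (v45 8 0 : ℂ) * w 1 = w 0 * v45 8 1
    rw [e0, e1]
    linear_combination 580608000 * r0
  · show (v45 8 0 : ℂ) * w 2 = w 0 * v45 8 2
    rw [e0, e2]
    linear_combination 16934400 * r0 + 599961600 * r1
  · show (v45 8 0 : ℂ) * w 3 = w 0 * v45 8 3
    rw [e0, e3]
    linear_combination (142527840 / 173) * r0 + (-807210240 / 173) * r1 + (-40997376000 / 173) * r2 + (1139127091200 / 173) * r3 + (-410792755200 / 173) * r4 + (1791885312000 / 173) * r5 + (3003541094400 / 173) * r6 + (-1136567255040 / 173) * r7 + (-4239088680960 / 173) * r8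
  · show (v45 8 0 : ℂ) * w 4 = w 0 * v45 8 4
    rw [e0, e4]
    linear_combination (-749224560 / 173) * r0 + (6382508160 / 173) * r1 + (230485248000 / 173) * r2 + (-996736204800 / 173) * r3 + (359443660800 / 173) * r4 + (-1567899648000 / 173) * r5 + (-2628098457600 / 173) * r6 + (994496348160 / 173) * r7 + (3709202595840 / 173) * r8
  · show (v45 8 0 : ℂ) * w 5 = w 0 * v45 8 5
    rw [e0, e5]
    linear_combination (-17390485 / 173) * r0 + (1462615960 / 173) * r1 + (14551152000 / 173) * r2 + (164022835200 / 173) * r3 + (-137730867200 / 173) * r4 + (5332992000 / 173) * r5 + (74839654400 / 173) * r6 + (-240624599040 / 173) * r7 + (224625623040 / 173) * r8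
  · show (v45 8 0 : ℂ) * w 6 = w 0 * v45 8 6
    rw [e0, e6]
    linear_combination (61659990 / 173) * r0 + (-6038162640 / 173) * r1 + (-57558816000 / 173) * r2 + (346177843200 / 173) * r3 + (233356492800 / 173) * r4 + (287981568000 / 173) * r5 + (166389350400 / 173) * r6 + (956098805760 / 173) * r7 + (-1820043509760 / 173) * r8
  · show (v45 8 0 : ℂ) * w 7 = w 0 * v45 8 7
    rw [e0, e7]
    linear_combination (-49737625 / 173) * r0 + (-629765000 / 173) * r1 + (7926576000 / 173) * r2 + (-153156864000 / 173) * r3 + (119928832000 / 173) * r4 + (-42663936000 / 173) * r5 + (47108096000 / 173) * r6 + (-399974400000 / 173) * r7 + (527966208000 / 173) * r8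
  · show (v45 8 0 : ℂ) * w 8 = w 0 * v45 8 8
    rw [e0, e8]
    linear_combination (232254785 / 519) * r0 + (8369815240 / 519) * r1 + (329840000 / 173) * r2 + (-318435174400 / 173) * r3 + (-348841164800 / 519) * r4 + (-318201856000 / 173) * r5 + (-295269990400 / 519) * r6 + (296727674880 / 173) * r7 + (657877893120 / 173) * r8
  · show (v45 8 0 : ℂ) * w 9 = w 0 * v45 8 9
    rw [e0, e9]
    linear_combination (-1620722005 / 519) * r0 + (-79053897320 / 519) * r1 + (-50479408000 / 173) * r2 + (-1121783756800 / 173) * r3 + (7092739686400 / 519) * r4 + (5345435648000 / 173) * r5 + (-20924349644800 / 519) * r6 + (2493067100160 / 173) * r7 + (-1368872386560 / 173) * r8 + (-3199795200) * r9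
  · show (v45 8 0 : ℂ) * w 10 = w 0 * v45 8 10
    rw [e0, e10]
    linear_combination (-554123605 / 519) * r0 + (-64121519720 / 519) * r1 + (-103809328000 / 173) * r2 + (-855134156800 / 173) * r3 + (5258190438400 / 519) * r4 + (2748268544000 / 173) * r5 + (-10418355404800 / 519) * r6 + (2432270991360 / 173) * r7 + (-2927172648960 / 173) * r8 + 3199795200 * r9

/-- an irreducible character of degree divisible by 30507008 -/
theorem deg45 : ∃ (χ : IrrCharacter TG) (d : ℕ), charDegree (χ : TG → ℂ) = d * 30507008 :=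
  deg_of θ45 v45 45 30507008 (1338567018750) (by decide +kernel) (by decide +kernel) (by decide +kernel) (by decide +kernel)
    (by norm_num) (by decide +kernel) (by decide +kernel) uniq45

/-- vectors for the eigenvalue 18 -/
def vL18 : List (List ℤ) := [
  [1, 0, 0, 0, 0, 0, 0, 0, 0, 0, 0],
  [31, 1, 0, 0, 0, 0, 0, 0, 0, 0, 0],
  [775, 55, 1, 0, 0, 0, 0, 0, 0, 0, 0],
  [14415, 1455, 63, 1, 3, 0, 0, 0, 0, 0, 0],
  [159030, 19350, 1510, 56, 210, 12, 21, 20, 0, 0, 0],
  [1141110, 211830, 28342, 4310, 8310, 3102, 4050, 3770, 2990, 2480, 2480],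
  [8030550, 1164630, 851286, 712470, 767550, 705306, 731550, 720930, 713910, 670530, 670530],
  [-184974210, 151778430, 134940798, 135085950, 134813790, 134986158, 134943390, 135092430, 134982270, 135027630, 135027630],
  [83514654720, -4377784320, 16837632, -21047040, 49986720, 4998672, 16161120, -22738320, 6013440, -5825520, -5825520]]

/-- vectors for the eigenvalue 18 -/
def v18 (s : ℕ) (i : Fin 11) : ℤ := (vL18.getD s []).getD i 0

/-- the other eigenvalues -/
def θ18 (s : ℕ) : ℤ := ([0, 14, 30, 45, 54, 70, 90, 279] : List ℤ).getD s 0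

theorem uniq18 (w : Fin 11 → ℂ) (h : ∀ i, ∑ j, (cov.Mx i j : ℂ) * w j = (18 : ℤ) * w i) :
    ∀ i, (v18 8 0 : ℂ) * w i = w 0 * v18 8 i := by
  have r0 := row0 w _ (h 0)
  have r1 := row1 w _ (h 1)
  have r2 := row2 w _ (h 2)
  have r3 := row3 w _ (h 3)
  have r4 := row4 w _ (h 4)
  have r5 := row5 w _ (h 5)
  have r6 := row6 w _ (h 6)
  have r7 := row7 w _ (h 7)
  have r8 := row8 w _ (h 8)
  have r9 := row9 w _ (h 9)
  have r10 := row10 w _ (h 10)
  push_cast at r0 r1 r2 r3 r4 r5 r6 r7 r8 r9 r10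
  have e0 : (v18 8 0 : ℂ) = 83514654720 := by
    have : v18 8 0 = 83514654720 := by decide +kernel
    rw [this]; norm_num
  have e1 : (v18 8 1 : ℂ) = -4377784320 := by
    have : v18 8 1 = -4377784320 := by decide +kernel
    rw [this]; norm_num
  have e2 : (v18 8 2 : ℂ) = 16837632 := by
    have : v18 8 2 = 16837632 := by decide +kernel
    rw [this]; norm_num
  have e3 : (v18 8 3 : ℂ) = -21047040 := by
    have : v18 8 3 = -21047040 := by decide +kernel
    rw [this]; norm_num
  have e4 : (v18 8 4 : ℂ) = 49986720 := by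
    have : v18 8 4 = 49986720 := by decide +kernel
    rw [this]; norm_num
  have e5 : (v18 8 5 : ℂ) = 4998672 := by
    have : v18 8 5 = 4998672 := by decide +kernel
    rw [this]; norm_num
  have e6 : (v18 8 6 : ℂ) = 16161120 := by
    have : v18 8 6 = 16161120 := by decide +kernel
    rw [this]; norm_num
  have e7 : (v18 8 7 : ℂ) = -22738320 := by
    have : v18 8 7 = -22738320 := by decide +kernel
    rw [this]; norm_num
  have e8 : (v18 8 8 : ℂ) = 6013440 := by
    have : v18 8 8 = 6013440 := by decide +kernel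
    rw [this]; norm_num
  have e9 : (v18 8 9 : ℂ) = -5825520 := by
    have : v18 8 9 = -5825520 := by decide +kernel
    rw [this]; norm_num
  have e10 : (v18 8 10 : ℂ) = -5825520 := by
    have : v18 8 10 = -5825520 := by decide +kernel
    rw [this]; norm_num
  intro i
  fin_cases i
  · show (v18 8 0 : ℂ) * w 0 = w 0 * v18 8 0
    ring
  · show (v18 8 0 : ℂ) * w 1 = w 0 * v18 8 1
    rw [e0, e1]
    linear_combination 336752640 * r0
  · show (v18 8 0 : ℂ) * w 2 = w 0 * v18 8 2
    rw [e0, e2]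
    linear_combination (-28062720) * r0 + 347977728 * r1
  · show (v18 8 0 : ℂ) * w 3 = w 0 * v18 8 3
    rw [e0, e3]
    linear_combination (-8252160) * r0 + 128325120 * r1 + (-519966720) * r2 + 5839626240 * r3 + (-8746106880) * r4 + (-19838730240) * r5 + (-36051025920) * r6 + 105593241600 * r7 + (-46077050880) * r8
  · show (v18 8 0 : ℂ) * w 4 = w 0 * v18 8 4
    rw [e0, e4]
    linear_combination 8974560 * r0 + (-166656000) * r1 + 1107429120 * r2 + (-5109672960) * r3 + 7652843520 * r4 + 17358888960 * r5 + 31544647680 * r6 + (-92394086400) * r7 + 40317419520 * r8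
  · show (v18 8 0 : ℂ) * w 5 = w 0 * v18 8 5
    rw [e0, e5]
    linear_combination 1286320 * r0 + (-21720832) * r1 + 115409280 * r2 + (-108326400) * r3 + 1004380160 * r4 + 2306519040 * r5 + 3941969920 * r6 + (-13399142400) * r7 + 6479585280 * r8
  · show (v18 8 0 : ℂ) * w 6 = w 0 * v18 8 6
    rw [e0, e6]
    linear_combination 4223520 * r0 + (-71066880) * r1 + 373904640 * r2 + (-3209794560) * r3 + 4262584320 * r4 + 12239216640 * r5 + 23438499840 * r6 + (-59756175360) * r7 + 23038525440 * r8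
  · show (v18 8 0 : ℂ) * w 7 = w 0 * v18 8 7
    rw [e0, e7]
    linear_combination (-4059440) * r0 + 75511040 * r1 + (-503479680) * r2 + 2841484800 * r3 + (-3631513600) * r4 + (-10892636160) * r5 + (-20243148800) * r6 + 55956418560 * r7 + (-23278510080) * r8
  · show (v18 8 0 : ℂ) * w 8 = w 0 * v18 8 8
    rw [e0, e8]
    linear_combination (-465920 / 3) * r0 + (-11983360 / 3) * r1 + 118405120 * r2 + (-577740800) * r3 + (-831692800 / 3) * r4 + (-71106560) * r5 + (2755379200 / 3) * r6 + (-1866547200) * r7 + 2079866880 * r8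
  · show (v18 8 0 : ℂ) * w 9 = w 0 * v18 8 9
    rw [e0, e9]
    linear_combination (63416080 / 3) * r0 + (-806932480 / 3) * r1 + 137153920 * r2 + (-39350259200) * r3 + (101161779200 / 3) * r4 + 144519639040 * r5 + (467725619200 / 3) * r6 + (-386441932800) * r7 + 96713809920 * r8 + (-4639703040) * r9
  · show (v18 8 0 : ℂ) * w 10 = w 0 * v18 8 10
    rw [e0, e10]
    linear_combination (-33244400 / 3) * r0 + (449653760 / 3) * r1 + (-249488000) * r2 + 14779609600 * r3 + (-45762150400 / 3) * r4 + (-61173862400) * r5 + (-197298483200 / 3) * r6 + 174962135040 * r7 + (-51756687360) * r8 + 4639703040 * r9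

/-- an irreducible character of degree divisible by 28861000 -/
theorem deg18 : ∃ (χ : IrrCharacter TG) (d : ℕ), charDegree (χ : TG → ℂ) = d * 28861000 :=
  deg_of θ18 v18 18 28861000 (820646940672) (by decide +kernel) (by decide +kernel) (by decide +kernel) (by decide +kernel)
    (by norm_num) (by decide +kernel) (by decide +kernel) uniq18

/-- vectors for the eigenvalue 90 -/
def vL90 : List (List ℤ) := [
  [1, 0, 0, 0, 0, 0, 0, 0, 0, 0, 0],
  [31, 1, 0, 0, 0, 0, 0, 0, 0, 0, 0],
  [775, 55, 1, 0, 0, 0, 0, 0, 0, 0, 0],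
  [23715, 2115, 75, 1, 3, 0, 0, 0, 0, 0, 0],
  [548235, 58635, 3211, 83, 291, 12, 21, 20, 0, 0, 0],
  [6866190, 908430, 82702, 6326, 15870, 3534, 4806, 4490, 2990, 2480, 2480],
  [67368270, 12179790, 2325070, 936590, 1199670, 866610, 942150, 916970, 869390, 799490, 799490],
  [393225390, 235631790, 196233390, 186383790, 190077390, 185768190, 187614990, 186999390, 186383790, 183305790, 183305790],
  [-39083212800, -9298022400, -1851724800, 9849600, -688240800, 126198000, -222847200, -106498800, 9849600, 591591600, 591591600]]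

/-- vectors for the eigenvalue 90 -/
def v90 (s : ℕ) (i : Fin 11) : ℤ := (vL90.getD s []).getD i 0

/-- the other eigenvalues -/
def θ90 (s : ℕ) : ℤ := ([0, 14, 18, 30, 45, 54, 70, 279] : List ℤ).getD s 0

theorem uniq90 (w : Fin 11 → ℂ) (h : ∀ i, ∑ j, (cov.Mx i j : ℂ) * w j = (90 : ℤ) * w i) :
    ∀ i, (v90 8 0 : ℂ) * w i = w 0 * v90 8 i := by
  have r0 := row0 w _ (h 0)
  have r1 := row1 w _ (h 1)
  have r2 := row2 w _ (h 2)
  have r3 := row3 w _ (h 3)
  have r4 := row4 w _ (h 4)
  have r5 := row5 w _ (h 5)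
  have r6 := row6 w _ (h 6)
  have r7 := row7 w _ (h 7)
  have r8 := row8 w _ (h 8)
  have r9 := row9 w _ (h 9)
  have r10 := row10 w _ (h 10)
  push_cast at r0 r1 r2 r3 r4 r5 r6 r7 r8 r9 r10
  have e0 : (v90 8 0 : ℂ) = -39083212800 := by
    have : v90 8 0 = -39083212800 := by decide +kernel
    rw [this]; norm_num
  have e1 : (v90 8 1 : ℂ) = -9298022400 := by
    have : v90 8 1 = -9298022400 := by decide +kernel
    rw [this]; norm_num
  have e2 : (v90 8 2 : ℂ) = -1851724800 := by
    have : v90 8 2 = -1851724800 := by decide +kernel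
    rw [this]; norm_num
  have e3 : (v90 8 3 : ℂ) = 9849600 := by
    have : v90 8 3 = 9849600 := by decide +kernel
    rw [this]; norm_num
  have e4 : (v90 8 4 : ℂ) = -688240800 := by
    have : v90 8 4 = -688240800 := by decide +kernel
    rw [this]; norm_num
  have e5 : (v90 8 5 : ℂ) = 126198000 := by
    have : v90 8 5 = 126198000 := by decide +kernel
    rw [this]; norm_num
  have e6 : (v90 8 6 : ℂ) = -222847200 := by
    have : v90 8 6 = -222847200 := by decide +kernel
    rw [this]; norm_num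
  have e7 : (v90 8 7 : ℂ) = -106498800 := by
    have : v90 8 7 = -106498800 := by decide +kernel
    rw [this]; norm_num
  have e8 : (v90 8 8 : ℂ) = 9849600 := by
    have : v90 8 8 = 9849600 := by decide +kernel
    rw [this]; norm_num
  have e9 : (v90 8 9 : ℂ) = 591591600 := by
    have : v90 8 9 = 591591600 := by decide +kernel
    rw [this]; norm_num
  have e10 : (v90 8 10 : ℂ) = 591591600 := by
    have : v90 8 10 = 591591600 := by decide +kernel
    rw [this]; norm_num
  intro i
  fin_cases i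
  · show (v90 8 0 : ℂ) * w 0 = w 0 * v90 8 0
    ring
  · show (v90 8 0 : ℂ) * w 1 = w 0 * v90 8 1
    rw [e0, e1]
    linear_combination (-157593600) * r0
  · show (v90 8 0 : ℂ) * w 2 = w 0 * v90 8 2
    rw [e0, e2]
    linear_combination (-34145280) * r0 + (-162846720) * r1
  · show (v90 8 0 : ℂ) * w 3 = w 0 * v90 8 3
    rw [e0, e3]
    linear_combination (1332480 / 7) * r0 + (9669120 / 7) * r1 + (172339200 / 7) * r2 + 849715200 * r3 + (231014400 / 7) * r4 + 545587200 * r5 + (-24576000) * r6 + (-468910080) * r7 + (-1167851520) * r8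
  · show (v90 8 0 : ℂ) * w 4 = w 0 * v90 8 4
    rw [e0, e4]
    linear_combination (-12806880) * r0 + (-67365120) * r1 + (-326880000) * r2 + (-743500800) * r3 + (-28876800) * r4 + (-477388800) * r5 + 21504000 * r6 + 410296320 * r7 + 1021870080 * r8
  · show (v90 8 0 : ℂ) * w 5 = w 0 * v90 8 5
    rw [e0, e5]
    linear_combination (16475440 / 7) * r0 + (88664960 / 7) * r1 + (524668800 / 7) * r2 + 177369600 * r3 + (1587200000 / 7) * r4 + 295219200 * r5 + (-111104000) * r6 + (-165703680) * r7 + (-719953920) * r8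
  · show (v90 8 0 : ℂ) * w 6 = w 0 * v90 8 6
    rw [e0, e6]
    linear_combination (-29098080 / 7) * r0 + (-156856320 / 7) * r1 + (-940204800 / 7) * r2 + (-256435200) * r3 + (-3150028800 / 7) * r4 + (-94003200) * r5 + 473702400 * r6 + (-341729280) * r7 + 623738880 * r8
  · show (v90 8 0 : ℂ) * w 7 = w 0 * v90 8 7
    rw [e0, e7]
    linear_combination (-13905200 / 7) * r0 + (-74915200 / 7) * r1 + (-447100800 / 7) * r2 + (-169382400) * r3 + (-1361305600 / 7) * r4 + (-200601600) * r5 + (-167014400) * r6 + 330854400 * r7 + 270950400 * r8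
  · show (v90 8 0 : ℂ) * w 8 = w 0 * v90 8 8
    rw [e0, e8]
    linear_combination (3792640 / 21) * r0 + (16924160 / 21) * r1 + (-20172800 / 7) * r2 + (-105267200) * r3 + (-1666048000 / 21) * r4 + (-133529600) * r5 + (-862208000 / 3) * r6 + (-272547840) * r7 + 673136640 * r8
  · show (v90 8 0 : ℂ) * w 9 = w 0 * v90 8 9
    rw [e0, e9]
    linear_combination (33135280 / 3) * r0 + (180206720 / 3) * r1 + 384400000 * r2 + 651942400 * r3 + (4920320000 / 3) * r4 + (-4034662400) * r5 + (6002790400 / 3) * r6 + 1830359040 * r7 + (-3188367360) * r8 + 434257920 * r9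
  · show (v90 8 0 : ℂ) * w 10 = w 0 * v90 8 10
    rw [e0, e10]
    linear_combination (232238800 / 21) * r0 + (1278665600 / 21) * r1 + (2965129600 / 7) * r2 + 628595200 * r3 + (47493324800 / 21) * r4 + (-8820838400) * r5 + (14454476800 / 3) * r6 + 4253798400 * r7 + (-3412500480) * r8 + (-434257920) * r9

/-- an irreducible character of degree divisible by 61256 -/
theorem deg90 : ∃ (χ : IrrCharacter TG) (d : ℕ), charDegree (χ : TG → ℂ) = d * 61256 :=
  deg_of θ90 v90 90 61256 (-180945031680000) (by decide +kernel) (by decide +kernel) (by decide +kernel) (by decide +kernel)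
    (by norm_num) (by decide +kernel) (by decide +kernel) uniq90

/-- vectors for the eigenvalue 70 -/
def vL70 : List (List ℤ) := [
  [1, 0, 0, 0, 0, 0, 0, 0, 0, 0, 0],
  [31, 1, 0, 0, 0, 0, 0, 0, 0, 0, 0],
  [775, 55, 1, 0, 0, 0, 0, 0, 0, 0, 0],
  [23715, 2115, 75, 1, 3, 0, 0, 0, 0, 0, 0],
  [548235, 58635, 3211, 83, 291, 12, 21, 20, 0, 0, 0],
  [6866190, 908430, 82702, 6326, 15870, 3534, 4806, 4490, 2990, 2480, 2480],
  [67368270, 12179790, 2325070, 936590, 1199670, 866610, 942150, 916970, 869390, 799490, 799490],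
  [-954140010, -7964010, 149731990, 167651990, 166083990, 168435990, 168771990, 168659990, 168995990, 167315990, 167315990],
  [234651648000, 36900864000, 3942400000, 197120000, 524832000, 33264000, -36960000, -13552000, -83776000, 267344000, 267344000]]

/-- vectors for the eigenvalue 70 -/
def v70 (s : ℕ) (i : Fin 11) : ℤ := (vL70.getD s []).getD i 0

/-- the other eigenvalues -/
def θ70 (s : ℕ) : ℤ := ([0, 14, 18, 30, 45, 54, 90, 279] : List ℤ).getD s 0

theorem uniq70 (w : Fin 11 → ℂ) (h : ∀ i, ∑ j, (cov.Mx i j : ℂ) * w j = (70 : ℤ) * w i) :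
    ∀ i, (v70 8 0 : ℂ) * w i = w 0 * v70 8 i := by
  have r0 := row0 w _ (h 0)
  have r1 := row1 w _ (h 1)
  have r2 := row2 w _ (h 2)
  have r3 := row3 w _ (h 3)
  have r4 := row4 w _ (h 4)
  have r5 := row5 w _ (h 5)
  have r6 := row6 w _ (h 6)
  have r7 := row7 w _ (h 7)
  have r8 := row8 w _ (h 8)
  have r9 := row9 w _ (h 9)
  have r10 := row10 w _ (h 10)
  push_cast at r0 r1 r2 r3 r4 r5 r6 r7 r8 r9 r10
  have e0 : (v70 8 0 : ℂ) = 234651648000 := by
    have : v70 8 0 = 234651648000 := by decide +kernel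
    rw [this]; norm_num
  have e1 : (v70 8 1 : ℂ) = 36900864000 := by
    have : v70 8 1 = 36900864000 := by decide +kernel
    rw [this]; norm_num
  have e2 : (v70 8 2 : ℂ) = 3942400000 := by
    have : v70 8 2 = 3942400000 := by decide +kernel
    rw [this]; norm_num
  have e3 : (v70 8 3 : ℂ) = 197120000 := by
    have : v70 8 3 = 197120000 := by decide +kernel
    rw [this]; norm_num
  have e4 : (v70 8 4 : ℂ) = 524832000 := by
    have : v70 8 4 = 524832000 := by decide +kernel
    rw [this]; norm_num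
  have e5 : (v70 8 5 : ℂ) = 33264000 := by
    have : v70 8 5 = 33264000 := by decide +kernel
    rw [this]; norm_num
  have e6 : (v70 8 6 : ℂ) = -36960000 := by
    have : v70 8 6 = -36960000 := by decide +kernel
    rw [this]; norm_num
  have e7 : (v70 8 7 : ℂ) = -13552000 := by
    have : v70 8 7 = -13552000 := by decide +kernel
    rw [this]; norm_num
  have e8 : (v70 8 8 : ℂ) = -83776000 := by
    have : v70 8 8 = -83776000 := by decide +kernel
    rw [this]; norm_num
  have e9 : (v70 8 9 : ℂ) = 267344000 := by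
    have : v70 8 9 = 267344000 := by decide +kernel
    rw [this]; norm_num
  have e10 : (v70 8 10 : ℂ) = 267344000 := by
    have : v70 8 10 = 267344000 := by decide +kernel
    rw [this]; norm_num
  intro i
  fin_cases i
  · show (v70 8 0 : ℂ) * w 0 = w 0 * v70 8 0
    ring
  · show (v70 8 0 : ℂ) * w 1 = w 0 * v70 8 1
    rw [e0, e1]
    linear_combination 946176000 * r0
  · show (v70 8 0 : ℂ) * w 2 = w 0 * v70 8 2
    rw [e0, e2]
    linear_combination 126156800 * r0 + 977715200 * r1
  · show (v70 8 0 : ℂ) * w 3 = w 0 * v70 8 3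
    rw [e0, e3]
    linear_combination (42607360 / 7) * r0 + (281847040 / 7) * r1 + (-1547520000 / 7) * r2 + (-11170713600) * r3 + (-12989644800 / 7) * r4 + (-9142272000) * r5 + (-3961651200) * r6 + 3976888320 * r7 + 23449927680 * r8
  · show (v70 8 0 : ℂ) * w 4 = w 0 * v70 8 4
    rw [e0, e4]
    linear_combination 18821280 * r0 + 209197920 * r1 + 2026656000 * r2 + 9774374400 * r3 + 1623705600 * r4 + 7999488000 * r5 + 3466444800 * r6 + (-3479777280) * r7 + (-20518686720) * r8
  · show (v70 8 0 : ℂ) * w 5 = w 0 * v70 8 5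
    rw [e0, e5]
    linear_combination (40270320 / 49) * r0 + (-59393520 / 49) * r1 + (-11887632000 / 49) * r2 + (-12047443200 / 7) * r3 + (-93939225600 / 49) * r4 + (-19236864000 / 7) * r5 + (-3447398400 / 7) * r6 + (1768458240 / 7) * r7 + (55942133760 / 7) * r8
  · show (v70 8 0 : ℂ) * w 6 = w 0 * v70 8 6
    rw [e0, e6]
    linear_combination (-39427680 / 49) * r0 + (273360480 / 49) * r1 + (18525600000 / 49) * r2 + (7995916800 / 7) * r3 + (157080422400 / 49) * r4 + (1142784000 / 7) * r5 + (-22969958400 / 7) * r6 + (31180861440 / 7) * r7 + (-34609213440 / 7) * r8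
  · show (v70 8 0 : ℂ) * w 7 = w 0 * v70 8 7
    rw [e0, e7]
    linear_combination (-11334000 / 49) * r0 + (222022000 / 49) * r1 + (9915536000 / 49) * r2 + (10236448000 / 7) * r3 + (64118912000 / 49) * r4 + (13903872000 / 7) * r5 + (14824448000 / 7) * r6 + (-17927424000 / 7) * r7 + (-23784192000 / 7) * r8
  · show (v70 8 0 : ℂ) * w 8 = w 0 * v70 8 8
    rw [e0, e8]
    linear_combination (-140354240 / 49) * r0 + (-1368791360 / 49) * r1 + (-8993472000 / 49) * r2 + (6221030400 / 7) * r3 + (-942796800 / 49) * r4 + (9142272000 / 7) * r5 + (21560524800 / 7) * r6 + (13328670720 / 7) * r7 + (-40755486720 / 7) * r8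
  · show (v70 8 0 : ℂ) * w 9 = w 0 * v70 8 9
    rw [e0, e9]
    linear_combination (463063120 / 49) * r0 + (4959605680 / 49) * r1 + (43867728000 / 49) * r2 + (46847596800 / 7) * r3 + (-38157081600 / 49) * r4 + (301123584000 / 7) * r5 + (-142295654400 / 7) * r6 + (-126442383360 / 7) * r7 + (-49508259840 / 7) * r8 + (-3352166400) * r9
  · show (v70 8 0 : ℂ) * w 10 = w 0 * v70 8 10
    rw [e0, e10]
    linear_combination (76128560 / 7) * r0 + (1097605840 / 7) * r1 + (16243504000 / 7) * r2 + 14673862400 * r3 + (51216563200 / 7) * r4 + 64567296000 * r5 + (-28309299200) * r6 + (-23330887680) * r7 + (-39636510720) * r8 + 3352166400 * r9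

/-- an irreducible character of degree divisible by 4881384 -/
theorem deg70 : ∃ (χ : IrrCharacter TG) (d : ℕ), charDegree (χ : TG → ℂ) = d * 4881384 :=
  deg_of θ70 v70 70 4881384 (13632819200000) (by decide +kernel) (by decide +kernel) (by decide +kernel) (by decide +kernel)
    (by norm_num) (by decide +kernel) (by decide +kernel) uniq70

/-- vectors for the eigenvalue 30 -/
def vL30 : List (List ℤ) := [
  [1, 0, 0, 0, 0, 0, 0, 0, 0, 0, 0],
  [31, 1, 0, 0, 0, 0, 0, 0, 0, 0, 0],
  [775, 55, 1, 0, 0, 0, 0, 0, 0, 0, 0],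
  [23715, 2115, 75, 1, 3, 0, 0, 0, 0, 0, 0],
  [192510, 26910, 2086, 68, 246, 12, 21, 20, 0, 0, 0],
  [2245950, 262590, 32638, 4694, 9966, 3246, 4302, 4010, 2990, 2480, 2480],
  [-22469730, 1676190, 1019550, 748830, 801030, 736770, 770070, 756570, 749790, 700290, 700290],
  [1741409190, 135060390, 135060390, 141453990, 142015590, 141561990, 141410790, 141605190, 141396390, 141288390, 141288390],
  [-398374502400, 1606348800, 1606348800, 14342400, -125496000, -12549600, 25099200, -23306400, 28684800, 55576800, 55576800]]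

/-- vectors for the eigenvalue 30 -/
def v30 (s : ℕ) (i : Fin 11) : ℤ := (vL30.getD s []).getD i 0

/-- the other eigenvalues -/
def θ30 (s : ℕ) : ℤ := ([0, 14, 18, 45, 54, 70, 90, 279] : List ℤ).getD s 0

theorem uniq30 (w : Fin 11 → ℂ) (h : ∀ i, ∑ j, (cov.Mx i j : ℂ) * w j = (30 : ℤ) * w i) :
    ∀ i, (v30 8 0 : ℂ) * w i = w 0 * v30 8 i := by
  have r0 := row0 w _ (h 0)
  have r1 := row1 w _ (h 1)
  have r2 := row2 w _ (h 2)
  have r3 := row3 w _ (h 3)
  have r4 := row4 w _ (h 4)
  have r5 := row5 w _ (h 5)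
  have r6 := row6 w _ (h 6)
  have r7 := row7 w _ (h 7)
  have r8 := row8 w _ (h 8)
  have r9 := row9 w _ (h 9)
  have r10 := row10 w _ (h 10)
  push_cast at r0 r1 r2 r3 r4 r5 r6 r7 r8 r9 r10
  have e0 : (v30 8 0 : ℂ) = -398374502400 := by
    have : v30 8 0 = -398374502400 := by decide +kernel
    rw [this]; norm_num
  have e1 : (v30 8 1 : ℂ) = 1606348800 := by
    have : v30 8 1 = 1606348800 := by decide +kernel
    rw [this]; norm_num
  have e2 : (v30 8 2 : ℂ) = 1606348800 := by
    have : v30 8 2 = 1606348800 := by decide +kernel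
    rw [this]; norm_num
  have e3 : (v30 8 3 : ℂ) = 14342400 := by
    have : v30 8 3 = 14342400 := by decide +kernel
    rw [this]; norm_num
  have e4 : (v30 8 4 : ℂ) = -125496000 := by
    have : v30 8 4 = -125496000 := by decide +kernel
    rw [this]; norm_num
  have e5 : (v30 8 5 : ℂ) = -12549600 := by
    have : v30 8 5 = -12549600 := by decide +kernel
    rw [this]; norm_num
  have e6 : (v30 8 6 : ℂ) = 25099200 := by
    have : v30 8 6 = 25099200 := by decide +kernel
    rw [this]; norm_num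
  have e7 : (v30 8 7 : ℂ) = -23306400 := by
    have : v30 8 7 = -23306400 := by decide +kernel
    rw [this]; norm_num
  have e8 : (v30 8 8 : ℂ) = 28684800 := by
    have : v30 8 8 = 28684800 := by decide +kernel
    rw [this]; norm_num
  have e9 : (v30 8 9 : ℂ) = 55576800 := by
    have : v30 8 9 = 55576800 := by decide +kernel
    rw [this]; norm_num
  have e10 : (v30 8 10 : ℂ) = 55576800 := by
    have : v30 8 10 = 55576800 := by decide +kernel
    rw [this]; norm_num
  intro i
  fin_cases i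
  · show (v30 8 0 : ℂ) * w 0 = w 0 * v30 8 0
    ring
  · show (v30 8 0 : ℂ) * w 1 = w 0 * v30 8 1
    rw [e0, e1]
    linear_combination (-1606348800) * r0
  · show (v30 8 0 : ℂ) * w 2 = w 0 * v30 8 2
    rw [e0, e2]
    linear_combination 53544960 * r0 + (-1659893760) * r1
  · show (v30 8 0 : ℂ) * w 3 = w 0 * v30 8 3
    rw [e0, e3]
    linear_combination 6370560 * r0 + (-20712960) * r1 + (-1414195200) * r2 + (-1199923200) * r3 + 5828198400 * r4 + (-14399078400) * r5 + (-33597849600) * r6 + 40317419520 * r7 + 2879815680 * r8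
  · show (v30 8 0 : ℂ) * w 4 = w 0 * v30 8 4
    rw [e0, e4]
    linear_combination 3628800 * r0 + 121867200 * r1 + (-1874880000) * r2 + 1049932800 * r3 + (-5099673600) * r4 + 12599193600 * r5 + 29398118400 * r6 + (-35277742080) * r7 + (-2519838720) * r8
  · show (v30 8 0 : ℂ) * w 5 = w 0 * v30 8 5
    rw [e0, e5]
    linear_combination 744800 * r0 + 11804800 * r1 + (-279148800) * r2 + (-2416512000) * r3 + 605516800 * r4 + 1433241600 * r5 + 3344230400 * r6 + 1519902720 * r7 + (-5819627520) * r8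
  · show (v30 8 0 : ℂ) * w 6 = w 0 * v30 8 6
    rw [e0, e6]
    linear_combination (-4058880) * r0 + (-21040320) * r1 + 1174924800 * r2 + (-2649830400) * r3 + (-566630400) * r4 + 1399910400 * r5 + 3266457600 * r6 + (-30478049280) * r7 + 26278318080 * r8
  · show (v30 8 0 : ℂ) * w 7 = w 0 * v30 8 7
    rw [e0, e7]
    linear_combination (-352800) * r0 + 23659200 * r1 + (-101779200) * r2 + 1799884800 * r3 + (-2221286400) * r4 + (-3299788800) * r5 + (-7699507200) * r6 + 19198771200 * r7 + (-9299404800) * r8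
  · show (v30 8 0 : ℂ) * w 8 = w 0 * v30 8 8
    rw [e0, e8]
    linear_combination (6211520 / 3) * r0 + (-92265920 / 3) * r1 + (-267443200) * r2 + 2860928000 * r3 + (6659891200 / 3) * r4 + 2977587200 * r5 + (-1288806400 / 3) * r6 + (-3173130240) * r7 + (-5759631360) * r8
  · show (v30 8 0 : ℂ) * w 9 = w 0 * v30 8 9
    rw [e0, e9]
    linear_combination (-149816800 / 3) * r0 + (-16913600 / 3) * r1 + 12429958400 * r2 + 17909964800 * r3 + (-115996544000 / 3) * r4 + (-156712192000) * r5 + (275193497600 / 3) * r6 + (-190121164800) * r7 + 248604088320 * r8 + 13279150080 * r9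
  · show (v30 8 0 : ℂ) * w 10 = w 0 * v30 8 10
    rw [e0, e10]
    linear_combination (-11492320 / 3) * r0 + (-155238080 / 3) * r1 + 1364000000 * r2 + 6844006400 * r3 + (-5336960000 / 3) * r4 + (-1788774400) * r5 + (-34653337600 / 3) * r6 + (-17492213760) * r7 + 36137687040 * r8 + (-13279150080) * r9

/-- an irreducible character of degree divisible by 91171899 -/
theorem deg30 : ∃ (χ : IrrCharacter TG) (d : ℕ), charDegree (χ : TG → ℂ) = d * 91171899 :=
  deg_of θ30 v30 30 91171899 (-1239183360000) (by decide +kernel) (by decide +kernel) (by decide +kernel) (by decide +kernel)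
    (by norm_num) (by decide +kernel) (by decide +kernel) uniq30

/-- vectors for the eigenvalue 14 -/
def vL14 : List (List ℤ) := [
  [1, 0, 0, 0, 0, 0, 0, 0, 0, 0, 0],
  [31, 1, 0, 0, 0, 0, 0, 0, 0, 0, 0],
  [651, 51, 1, 0, 0, 0, 0, 0, 0, 0, 0],
  [13299, 1299, 59, 1, 3, 0, 0, 0, 0, 0, 0],
  [135966, 18366, 1382, 52, 198, 12, 21, 20, 0, 0, 0],
  [1427550, 173790, 27422, 4246, 7950, 3054, 3966, 3690, 2990, 2480, 2480],
  [-12574530, 2447550, 789438, 698814, 754470, 695586, 720054, 710330, 701950, 660610, 660610],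
  [1348889670, 49617990, 136236102, 133273926, 132737670, 132903654, 132890886, 133014310, 133035590, 133099430, 133099430],
  [-322219376640, 22087618560, -866181120, -81204480, 60903360, 16917600, 20301120, -12406240, -18045440, -34963040, -34963040]]

/-- vectors for the eigenvalue 14 -/
def v14 (s : ℕ) (i : Fin 11) : ℤ := (vL14.getD s []).getD i 0

/-- the other eigenvalues -/
def θ14 (s : ℕ) : ℤ := ([0, 18, 30, 45, 54, 70, 90, 279] : List ℤ).getD s 0

theorem uniq14 (w : Fin 11 → ℂ) (h : ∀ i, ∑ j, (cov.Mx i j : ℂ) * w j = (14 : ℤ) * w i) :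
    ∀ i, (v14 8 0 : ℂ) * w i = w 0 * v14 8 i := by
  have r0 := row0 w _ (h 0)
  have r1 := row1 w _ (h 1)
  have r2 := row2 w _ (h 2)
  have r3 := row3 w _ (h 3)
  have r4 := row4 w _ (h 4)
  have r5 := row5 w _ (h 5)
  have r6 := row6 w _ (h 6)
  have r7 := row7 w _ (h 7)
  have r8 := row8 w _ (h 8)
  have r9 := row9 w _ (h 9)
  have r10 := row10 w _ (h 10)
  push_cast at r0 r1 r2 r3 r4 r5 r6 r7 r8 r9 r10
  have e0 : (v14 8 0 : ℂ) = -322219376640 := by
    have : v14 8 0 = -322219376640 := by decide +kernel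
    rw [this]; norm_num
  have e1 : (v14 8 1 : ℂ) = 22087618560 := by
    have : v14 8 1 = 22087618560 := by decide +kernel
    rw [this]; norm_num
  have e2 : (v14 8 2 : ℂ) = -866181120 := by
    have : v14 8 2 = -866181120 := by decide +kernel
    rw [this]; norm_num
  have e3 : (v14 8 3 : ℂ) = -81204480 := by
    have : v14 8 3 = -81204480 := by decide +kernel
    rw [this]; norm_num
  have e4 : (v14 8 4 : ℂ) = 60903360 := by
    have : v14 8 4 = 60903360 := by decide +kernel
    rw [this]; norm_num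
  have e5 : (v14 8 5 : ℂ) = 16917600 := by
    have : v14 8 5 = 16917600 := by decide +kernel
    rw [this]; norm_num
  have e6 : (v14 8 6 : ℂ) = 20301120 := by
    have : v14 8 6 = 20301120 := by decide +kernel
    rw [this]; norm_num
  have e7 : (v14 8 7 : ℂ) = -12406240 := by
    have : v14 8 7 = -12406240 := by decide +kernel
    rw [this]; norm_num
  have e8 : (v14 8 8 : ℂ) = -18045440 := by
    have : v14 8 8 = -18045440 := by decide +kernel
    rw [this]; norm_num
  have e9 : (v14 8 9 : ℂ) = -34963040 := by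
    have : v14 8 9 = -34963040 := by decide +kernel
    rw [this]; norm_num
  have e10 : (v14 8 10 : ℂ) = -34963040 := by
    have : v14 8 10 = -34963040 := by decide +kernel
    rw [this]; norm_num
  intro i
  fin_cases i
  · show (v14 8 0 : ℂ) * w 0 = w 0 * v14 8 0
    ring
  · show (v14 8 0 : ℂ) * w 1 = w 0 * v14 8 1
    rw [e0, e1]
    linear_combination (-1299271680) * r0
  · show (v14 8 0 : ℂ) * w 2 = w 0 * v14 8 2
    rw [e0, e2]
    linear_combination 129927168 * r0 + (-1342580736) * r1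
  · show (v14 8 0 : ℂ) * w 3 = w 0 * v14 8 3
    rw [e0, e3]
    linear_combination 5448960 * r0 + (-11427840) * r1 + (-1077073920) * r2 + (-4607705088) * r3 + 11066720256 * r4 + 12479201280 * r5 + 18366824448 * r6 + (-73723281408) * r7 + 36285677568 * r8
  · show (v14 8 0 : ℂ) * w 4 = w 0 * v14 8 4
    rw [e0, e4]
    linear_combination (-18978624) * r0 + 261733248 * r1 + (-1574899200) * r2 + 4031741952 * r3 + (-9683380224) * r4 + (-10919301120) * r5 + (-16070971392) * r6 + 64507871232 * r7 + (-31749967872) * r8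
  · show (v14 8 0 : ℂ) * w 5 = w 0 * v14 8 5
    rw [e0, e5]
    linear_combination (-18252288 / 7) * r0 + (191865696 / 7) * r1 + (-78209280 / 7) * r2 + (-1693463040) * r3 + (-10772167680 / 7) * r4 + (-1557043200) * r5 + (-1111357440) * r6 + 13182013440 * r7 + (-8510883840) * r8
  · show (v14 8 0 : ℂ) * w 6 = w 0 * v14 8 6
    rw [e0, e6]
    linear_combination (-13963968 / 7) * r0 + (95279616 / 7) * r1 + (1176353280 / 7) * r2 + 2380990464 * r3 + (-22588839936 / 7) * r4 + (-9685094400) * r5 + (-19919867904) * r6 + 38095847424 * r7 + (-9040564224) * r8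
  · show (v14 8 0 : ℂ) * w 7 = w 0 * v14 8 7
    rw [e0, e7]
    linear_combination (30701760 / 7) * r0 + (-435086240 / 7) * r1 + (2828033280 / 7) * r2 + (-1709652480) * r3 + (16171822080 / 7) * r4 + 8116623360 * r5 + 14070528000 * r6 + (-40780247040) * r7 + 16430376960 * r8
  · show (v14 8 0 : ℂ) * w 8 = w 0 * v14 8 8
    rw [e0, e8]
    linear_combination (-104640 / 7) * r0 + (128096960 / 7) * r1 + (-3048376320 / 7) * r2 + 1720366080 * r3 + (10125066240 / 7) * r4 + 1474191360 * r5 + (-1017077760) * r6 + 674242560 * r7 + (-5096816640) * r8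
  · show (v14 8 0 : ℂ) * w 9 = w 0 * v14 8 9
    rw [e0, e9]
    linear_combination (503688000 / 7) * r0 + (-8317954720 / 7) * r1 + (74716289280 / 7) * r2 + 116943705600 * r3 + (-205162583040 / 7) * r4 + (-372773283840) * r5 + (-153484462080) * r6 + 146842030080 * r7 + 257992058880 * r8 + 23015669760 * r9
  · show (v14 8 0 : ℂ) * w 10 = w 0 * v14 8 10
    rw [e0, e10]
    linear_combination (-215551680 / 7) * r0 + (3909119840 / 7) * r1 + (-40362059520 / 7) * r2 + (-55673817600) * r3 + (140072463360 / 7) * r4 + 202618460160 * r5 + 76672235520 * r6 + (-106330337280) * r7 + (-110258657280) * r8 + (-23015669760) * r9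

/-- an irreducible character of degree divisible by 72925515 -/
theorem deg14 : ∃ (χ : IrrCharacter TG) (d : ℕ), charDegree (χ : TG → ℂ) = d * 72925515 :=
  deg_of θ14 v14 14 72925515 (-1253075353600) (by decide +kernel) (by decide +kernel) (by decide +kernel) (by decide +kernel)
    (by norm_num) (by decide +kernel) (by decide +kernel) uniq14

end Cfsg.Agent.H894.ThLine
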