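import Cfsg.Agent.H652.Four.SphDeg

/-!
# Degrees of irreducible characters from a rank two geometry (helper894)

`Cov G C D a b n m`: points `G / C`, lines `G / D`, `a` points on a line, `b` lines through a point, `D`-orbits of lines
(representatives `g i`) and of points (representatives `h j`), and the orbit of every point on `g i` and of every line
through `h j`. `Cov.degree`: a simple eigenvalue of the collapsed collinearity matrix gives an irreducible degree.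
-/

set_option autoImplicit false

open Cfsg

namespace Cfsg.Agent.H894.ThLine

open Cfsg.Agent.H652.Four

universe u

/-- right invariance -/
def RInv {G : Type u} [Group G] (D : Subgroup G) (f : G → ℂ) : Prop := ∀ x, ∀ d ∈ D, f (x * d) = f x

/-- left invariance -/
def LInv {G : Type u} [Group G] (D : Subgroup G) (f : G → ℂ) : Prop := ∀ d ∈ D, ∀ x, f (d * x) = f x

/-- a rank two geometry and its `D`-orbits -/
structure Cov (G : Type u) [Group G] (C D : Subgroup G) (a b n m : ℕ) where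
  δ : Fin a → G
  γ : Fin b → G
  hδ : ∀ k, δ k ∈ D
  hγ : ∀ l, γ l ∈ C
  exD : ∀ d ∈ D, ∃ k, (δ k)⁻¹ * d ∈ C
  unD : ∀ k k', (δ k)⁻¹ * δ k' ∈ C → k = k'
  exC : ∀ c ∈ C, ∃ l, (γ l)⁻¹ * c ∈ D
  unC : ∀ l l', (γ l)⁻¹ * γ l' ∈ D → l = l'
  g : Fin n → G
  h : Fin m → G
  lam : Fin n → Fin a → Fin m
  mu : Fin m → Fin b → Fin n
  lp : ∀ i k, ∃ d ∈ D, ∃ c ∈ C, g i * δ k = d * h (lam i k) * c
  pl : ∀ j l, ∃ d ∈ D, ∃ d' ∈ D, h j * γ l = d * g (mu j l) * d'
  z : Fin n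
  gz : g z = 1
  hz : ∀ i, i ≠ z → g i ∉ D
  top : C ⊔ D = ⊤

/-- sums over coset representatives -/
theorem rinv_sum {G : Type u} [Group G] {C D : Subgroup G} {b : ℕ} (γ : Fin b → G) (hγ : ∀ l, γ l ∈ C)
    (exC : ∀ c ∈ C, ∃ l, (γ l)⁻¹ * c ∈ D) (unC : ∀ l l', (γ l)⁻¹ * γ l' ∈ D → l = l') {f : G → ℂ} (hf : RInv D f) :
    RInv C (fun x => ∑ l, f (x * γ l)) := by
  intro x c hc
  have h1 : ∀ l, ∃ l', (γ l')⁻¹ * (c * γ l) ∈ D := fun l => exC _ (C.mul_mem hc (hγ l))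
  choose π hπ using h1
  have hinj : Function.Injective π := by
    intro l l' h
    apply unC
    have h2 := D.mul_mem (D.inv_mem (hπ l)) (by rw [h]; exact hπ l' : (γ (π l))⁻¹ * (c * γ l') ∈ D)
    have h3 : ((γ (π l))⁻¹ * (c * γ l))⁻¹ * ((γ (π l))⁻¹ * (c * γ l')) = (γ l)⁻¹ * γ l' := by group
    rwa [h3] at h2
  have hbij : Function.Bijective π := Finite.injective_iff_bijective.1 hinj
  show ∑ l, f (x * c * γ l) = ∑ l, f (x * γ l)
  rw [← Equiv.sum_comp (Equiv.ofBijective π hbij) (fun l => f (x * γ l))]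
  refine Finset.sum_congr rfl fun l _ => ?_
  show f (x * c * γ l) = f (x * γ (π l))
  have h4 : x * c * γ l = x * γ (π l) * ((γ (π l))⁻¹ * (c * γ l)) := by group
  rw [h4, hf _ _ (hπ l)]

namespace Cov

variable {G : Type u} [Group G] {C D : Subgroup G} {a b n m : ℕ} (Γ : Cov G C D a b n m)

/-- sum over the lines through a point -/
def up (f : G → ℂ) : G → ℂ := fun x => ∑ l, f (x * Γ.γ l)

/-- sum over the points on a line -/
def dn (F : G → ℂ) : G → ℂ := fun x => ∑ k, F (x * Γ.δ k)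

/-- collinearity operator -/
def T (f : G → ℂ) : G → ℂ := Γ.dn (Γ.up f)

theorem T_apply (f : G → ℂ) (x : G) : Γ.T f x = ∑ k, ∑ l, f (x * Γ.δ k * Γ.γ l) := rfl

theorem up_rinv {f : G → ℂ} (hf : RInv D f) : RInv C (Γ.up f) := rinv_sum Γ.γ Γ.hγ Γ.exC Γ.unC hf

theorem dn_rinv {F : G → ℂ} (hF : RInv C F) : RInv D (Γ.dn F) := rinv_sum Γ.δ Γ.hδ Γ.exD Γ.unD hF

theorem T_rinv {f : G → ℂ} (hf : RInv D f) : RInv D (Γ.T f) := Γ.dn_rinv (Γ.up_rinv hf)

theorem up_linv {f : G → ℂ} (hf : LInv D f) : LInv D (Γ.up f) := by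
  intro d hd x
  refine Finset.sum_congr rfl fun l _ => ?_
  rw [mul_assoc, hf d hd]

theorem T_linv {f : G → ℂ} (hf : LInv D f) : LInv D (Γ.T f) := by
  intro d hd x
  rw [T_apply, T_apply]
  refine Finset.sum_congr rfl fun k _ => Finset.sum_congr rfl fun l _ => ?_
  rw [mul_assoc, mul_assoc, hf d hd, mul_assoc]

/-- the collapsed matrix -/
def Mx (i j : Fin n) : ℕ := ∑ k, ∑ l, if Γ.mu (Γ.lam i k) l = j then 1 else 0

theorem sum_Mx {R : Type*} [CommRing R] (v : Fin n → R) (i : Fin n) :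
    ∑ k, ∑ l, v (Γ.mu (Γ.lam i k) l) = ∑ j, (Γ.Mx i j : R) * v j := by
  have h1 : ∀ j, (Γ.Mx i j : R) * v j = ∑ k, ∑ l, if Γ.mu (Γ.lam i k) l = j then v j else 0 := by
    intro j
    unfold Mx
    push_cast
    rw [Finset.sum_mul]
    refine Finset.sum_congr rfl fun k _ => ?_
    rw [Finset.sum_mul]
    refine Finset.sum_congr rfl fun l _ => ?_
    split_ifs <;> simp
  have h2 : ∑ j, (Γ.Mx i j : R) * v j = ∑ j, ∑ k, ∑ l, if Γ.mu (Γ.lam i k) l = j then v j else 0 :=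
    Finset.sum_congr rfl fun j _ => h1 j
  symm
  rw [h2, Finset.sum_comm]
  refine Finset.sum_congr rfl fun k _ => ?_
  rw [Finset.sum_comm]
  refine Finset.sum_congr rfl fun l _ => ?_
  rw [Finset.sum_ite_eq, if_pos (Finset.mem_univ _)]

/-- the value of `T f` at the representatives -/
theorem T_rep {f : G → ℂ} (hr : RInv D f) (hl : LInv D f) (i : Fin n) :
    Γ.T f (Γ.g i) = ∑ j, (Γ.Mx i j : ℂ) * f (Γ.g j) := by
  rw [← Γ.sum_Mx (fun j => f (Γ.g j)) i]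
  show ∑ k, Γ.up f (Γ.g i * Γ.δ k) = _
  refine Finset.sum_congr rfl fun k _ => ?_
  obtain ⟨d, hd, c, hc, e⟩ := Γ.lp i k
  rw [e, Γ.up_rinv hr _ _ hc, Γ.up_linv hl _ hd]
  show ∑ l, f (Γ.h (Γ.lam i k) * Γ.γ l) = _
  refine Finset.sum_congr rfl fun l _ => ?_
  obtain ⟨d, hd, d', hd', e⟩ := Γ.pl (Γ.lam i k) l
  rw [e, hr _ _ hd', hl _ hd]

/-- the representatives cover the group -/
theorem cover (x : G) : ∃ i, ∃ d ∈ D, ∃ d' ∈ D, x = d * Γ.g i * d' := by
  have key : ∀ y ∈ C ⊔ D, ∀ x, (∃ i, ∃ d ∈ D, ∃ d' ∈ D, x = d * Γ.g i * d') →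
      ∃ i, ∃ d ∈ D, ∃ d' ∈ D, x * y = d * Γ.g i * d' := by
    intro y hy
    rw [Subgroup.sup_eq_closure] at hy
    have hsub : ∀ y ∈ (C : Set G) ∪ D, ∀ x, (∃ i, ∃ d ∈ D, ∃ d' ∈ D, x = d * Γ.g i * d') →
        ∃ i, ∃ d ∈ D, ∃ d' ∈ D, x * y = d * Γ.g i * d' := by
      rintro y (hy | hy) x ⟨i, d, hd, d', hd', rfl⟩
      · obtain ⟨k, hk⟩ := Γ.exD d' hd'
        obtain ⟨e, he, c, hc, h1⟩ := Γ.lp i k
        obtain ⟨l, hl⟩ := Γ.exC (c * ((Γ.δ k)⁻¹ * d') * y) (C.mul_mem (C.mul_mem hc hk) hy)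
        obtain ⟨f, hf, f', hf', h2⟩ := Γ.pl (Γ.lam i k) l
        refine ⟨Γ.mu (Γ.lam i k) l, d * (e * f), D.mul_mem hd (D.mul_mem he hf),
          f' * ((Γ.γ l)⁻¹ * (c * ((Γ.δ k)⁻¹ * d') * y)), D.mul_mem hf' hl, ?_⟩
        have h3 : d * Γ.g i * d' * y = d * (Γ.g i * Γ.δ k) * ((Γ.δ k)⁻¹ * d') * y := by group
        rw [h3, h1]
        have h4 : d * (e * Γ.h (Γ.lam i k) * c) * ((Γ.δ k)⁻¹ * d') * y =
            d * e * (Γ.h (Γ.lam i k) * Γ.γ l) * ((Γ.γ l)⁻¹ * (c * ((Γ.δ k)⁻¹ * d') * y)) := by group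
        rw [h4, h2]
        group
      · exact ⟨i, d, hd, d' * y, D.mul_mem hd' hy, by group⟩
    induction hy using Subgroup.closure_induction with
    | mem y hy => exact hsub y hy
    | one => intro x hx; rwa [mul_one]
    | mul y w _ _ h1 h2 =>
      intro x hx
      rw [← mul_assoc]
      exact h2 _ (h1 x hx)
    | inv y hy h1 =>
      -- the group is generated by the elements of `C` and `D`, closed under inverses
      intro x hx
      have h5 : y⁻¹ ∈ Subgroup.closure ((C : Set G) ∪ D) := Subgroup.inv_mem _ hy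
      rw [← Subgroup.mem_toSubmonoid, Subgroup.closure_toSubmonoid] at h5
      have h6 : ((C : Set G) ∪ D) ∪ ((C : Set G) ∪ D)⁻¹ = (C : Set G) ∪ D := by
        ext w
        simp
      rw [h6] at h5
      clear h1 hy
      revert x
      generalize y⁻¹ = w at h5
      induction h5 using Submonoid.closure_induction with
      | mem w hw => exact fun x hx => hsub w hw x hx
      | one => intro x hx; rwa [mul_one]
      | mul y w _ _ h1 h2 =>
        intro x hx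
        rw [← mul_assoc]
        exact h2 _ (h1 x hx)
  have h1 := key x (by rw [Γ.top]; exact Subgroup.mem_top x) 1
    ⟨Γ.z, 1, D.one_mem, 1, D.one_mem, by rw [Γ.gz]; group⟩
  rwa [one_mul] at h1

/-- bi-invariant functions are determined by the values at the representatives -/
theorem ext_rep {f f' : G → ℂ} (hr : RInv D f) (hl : LInv D f) (hr' : RInv D f') (hl' : LInv D f')
    (h : ∀ i, f (Γ.g i) = f' (Γ.g i)) (x : G) : f x = f' x := by
  obtain ⟨i, d, hd, d', hd', rfl⟩ := Γ.cover x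
  rw [hr _ _ hd', hl _ hd, hr' _ _ hd', hl' _ hd, h]

open Classical in
/-- the indicator function of `D` -/
noncomputable def ind (D : Subgroup G) : G → ℂ := fun x => if x ∈ D then 1 else 0

theorem ind_rinv (D : Subgroup G) : RInv D (ind D) := by
  intro x d hd
  unfold ind
  rw [Subgroup.mul_mem_cancel_right D hd]

theorem ind_linv (D : Subgroup G) : LInv D (ind D) := by
  intro d hd x
  unfold ind
  rw [Subgroup.mul_mem_cancel_left D hd]

/-- the iterated operators -/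
noncomputable def ph (θ : ℕ → ℤ) : ℕ → (G → ℂ)
  | 0 => ind D
  | s + 1 => fun x => Γ.T (ph θ s) x - θ s * ph θ s x

theorem ph_inv (θ : ℕ → ℤ) (s : ℕ) : RInv D (Γ.ph θ s) ∧ LInv D (Γ.ph θ s) := by
  induction s with
  | zero => exact ⟨ind_rinv D, ind_linv D⟩
  | succ s ih =>
    refine ⟨fun x d hd => ?_, fun d hd x => ?_⟩
    · show Γ.T (Γ.ph θ s) (x * d) - θ s * Γ.ph θ s (x * d) = _
      rw [Γ.T_rinv ih.1 _ _ hd, ih.1 _ _ hd]; rfl
    · show Γ.T (Γ.ph θ s) (d * x) - θ s * Γ.ph θ s (d * x) = _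
      rw [Γ.T_linv ih.2 _ hd, ih.2 _ hd]; rfl

theorem ph_rep (θ : ℕ → ℤ) (v : ℕ → Fin n → ℤ) (r : ℕ) (hv0 : ∀ i, v 0 i = if i = Γ.z then 1 else 0)
    (hv : ∀ s < r, ∀ i, v (s + 1) i = ∑ j, (Γ.Mx i j : ℤ) * v s j - θ s * v s i) :
    ∀ s ≤ r, ∀ i, Γ.ph θ s (Γ.g i) = v s i := by
  intro s
  induction s with
  | zero =>
    intro _ i
    show ind D (Γ.g i) = _
    unfold ind
    rw [hv0]
    by_cases h : i = Γ.z
    · subst h
      rw [Γ.gz, if_pos D.one_mem, if_pos rfl, Int.cast_one]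
    · rw [if_neg (Γ.hz i h), if_neg h, Int.cast_zero]
  | succ s ih =>
    intro hs i
    have ih' := ih (by omega)
    show Γ.T (Γ.ph θ s) (Γ.g i) - θ s * Γ.ph θ s (Γ.g i) = _
    rw [Γ.T_rep (Γ.ph_inv θ s).1 (Γ.ph_inv θ s).2, ih', hv s (by omega)]
    push_cast
    congr 1
    exact Finset.sum_congr rfl fun j _ => by rw [ih']

variable [Finite G]

/-- **the degree** -/
theorem degree (θ : ℕ → ℤ) (v : ℕ → Fin n → ℤ) (r : ℕ) (t : ℤ) (hv0 : ∀ i, v 0 i = if i = Γ.z then 1 else 0)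
    (hv : ∀ s < r, ∀ i, v (s + 1) i = ∑ j, (Γ.Mx i j : ℤ) * v s j - θ s * v s i)
    (ht : ∀ i, ∑ j, (Γ.Mx i j : ℤ) * v r j = t * v r i) (hne : v r Γ.z ≠ 0)
    (huniq : ∀ w : Fin n → ℂ, (∀ i, ∑ j, (Γ.Mx i j : ℂ) * w j = t * w i) →
      ∀ i, (v r Γ.z : ℂ) * w i = w Γ.z * v r i) :
    ∃ (χ : IrrCharacter G) (d : ℕ), (charDegree (χ : G → ℂ) : ℤ) * (Nat.card D : ℤ) * ∏ s ∈ Finset.range r, (t - θ s) =
      d * (Nat.card G : ℤ) * v r Γ.z := by
  classical
  have := Fintype.ofFinite G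
  have := Fintype.ofFinite D
  have hne' : (v r Γ.z : ℂ) ≠ 0 := Int.cast_ne_zero.2 hne
  have hrep := Γ.ph_rep θ v r hv0 hv r le_rfl
  obtain ⟨hpr, hpl⟩ := Γ.ph_inv θ r
  set φ : G → ℂ := fun x => (v r Γ.z : ℂ)⁻¹ * Γ.ph θ r x with hφdef
  have hφr : RInv D φ := fun x d hd => by simp only [hφdef]; rw [hpr _ _ hd]
  have hφl : LInv D φ := fun d hd x => by simp only [hφdef]; rw [hpl _ hd]
  have hφg : ∀ i, φ (Γ.g i) = (v r Γ.z : ℂ)⁻¹ * v r i := fun i => by simp only [hφdef]; rw [hrep]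
  have hφ1 : φ 1 = 1 := by
    have := hφg Γ.z
    rwa [Γ.gz, inv_mul_cancel₀ hne'] at this
  have Tsmul : ∀ (c : ℂ) (f : G → ℂ) x, Γ.T (fun y => c * f y) x = c * Γ.T f x := by
    intro c f x
    rw [T_apply, T_apply, Finset.mul_sum]
    exact Finset.sum_congr rfl fun k _ => by rw [Finset.mul_sum]
  have Tadd : ∀ (f f' : G → ℂ) x, Γ.T (fun y => f y + f' y) x = Γ.T f x + Γ.T f' x := by
    intro f f' x
    rw [T_apply, T_apply, T_apply, ← Finset.sum_add_distrib]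
    exact Finset.sum_congr rfl fun k _ => by rw [Finset.sum_add_distrib]
  have Tφ : ∀ x, Γ.T φ x = t * φ x := by
    apply Γ.ext_rep (f := Γ.T φ) (f' := fun x => t * φ x) (Γ.T_rinv hφr) (Γ.T_linv hφl)
      (fun x d hd => by show t * φ (x * d) = t * φ x; rw [hφr _ _ hd])
      (fun d hd x => by show t * φ (d * x) = t * φ x; rw [hφl _ hd])
    intro i
    rw [Γ.T_rep hφr hφl]
    have h1 : ∀ j, (Γ.Mx i j : ℂ) * φ (Γ.g j) = (v r Γ.z : ℂ)⁻¹ * ((Γ.Mx i j : ℂ) * v r j) := by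
      intro j; rw [hφg]; ring
    rw [Finset.sum_congr rfl fun j _ => h1 j, ← Finset.mul_sum]
    have h2 : ∑ j, (Γ.Mx i j : ℂ) * (v r j : ℂ) = t * v r i := by exact_mod_cast ht i
    rw [h2]
    show _ = t * φ (Γ.g i)
    rw [hφg]; ring
  -- the space
  let E : Submodule ℂ (G → ℂ) :=
    { carrier := {f | RInv D f ∧ ∀ x, Γ.T f x = t * f x}
      add_mem' := by
        rintro f f' ⟨h1, h2⟩ ⟨h3, h4⟩
        refine ⟨fun x d hd => ?_, fun x => ?_⟩
        · rw [Pi.add_apply, Pi.add_apply, h1 _ _ hd, h3 _ _ hd]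
        · have h5 : Γ.T (f + f') x = Γ.T f x + Γ.T f' x := Tadd f f' x
          rw [h5, h2, h4, Pi.add_apply]; ring
      zero_mem' := by
        refine ⟨fun x d hd => rfl, fun x => ?_⟩
        rw [T_apply]
        simp
      smul_mem' := by
        rintro c f ⟨h1, h2⟩
        refine ⟨fun x d hd => ?_, fun x => ?_⟩
        · rw [Pi.smul_apply, Pi.smul_apply, h1 _ _ hd]
        · have h5 : Γ.T (c • f) x = c * Γ.T f x := Tsmul c f x
          rw [h5, h2, Pi.smul_apply, smul_eq_mul]; ring }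
  have huE : ∀ f ∈ E, (∀ k ∈ D, ∀ x, f (k * x) = f x) → ∀ x, f x = f 1 * φ x := by
    rintro f ⟨h1, h2⟩ h3
    have h4 := huniq (fun i => f (Γ.g i)) (fun i => by rw [← Γ.T_rep h1 h3, h2])
    apply Γ.ext_rep (f := f) (f' := fun x => f 1 * φ x) h1 h3
      (fun x d hd => by show f 1 * φ (x * d) = f 1 * φ x; rw [hφr _ _ hd])
      (fun d hd x => by show f 1 * φ (d * x) = f 1 * φ x; rw [hφl _ hd])
    intro i
    have h5 := h4 i
    show f (Γ.g i) = f 1 * φ (Γ.g i)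
    rw [hφg]
    have h6 : (v r Γ.z : ℂ) * f (Γ.g i) = f (Γ.g Γ.z) * v r i := h5
    rw [Γ.gz] at h6
    field_simp
    linear_combination h6
  obtain ⟨χ, d, hχ⟩ := SphDeg.degree_of_sph D E
    (by
      rintro f ⟨h1, h2⟩ g
      refine ⟨fun x k hk => ?_, fun x => ?_⟩
      · show f (g * (x * k)) = f (g * x)
        rw [← mul_assoc, h1 _ _ hk]
      · have h3 : Γ.T (fun x => f (g * x)) x = Γ.T f (g * x) := by
          rw [T_apply, T_apply]
          refine Finset.sum_congr rfl fun k _ => Finset.sum_congr rfl fun l _ => ?_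
          simp only [mul_assoc]
        rw [h3, h2])
    (fun f hf => hf.1) φ ⟨hφr, Tφ⟩ hφ1 huE hφl
  -- the convolution with `φ`
  let cv : (G → ℂ) → (G → ℂ) := fun f x => ∑ g, φ g * f (g⁻¹ * x)
  have cvT : ∀ (f : G → ℂ) x, cv (Γ.T f) x = Γ.T (cv f) x := by
    intro f x
    show ∑ g, φ g * Γ.T f (g⁻¹ * x) = _
    rw [T_apply]
    have h1 : ∀ g, φ g * Γ.T f (g⁻¹ * x) = ∑ k, ∑ l, φ g * f (g⁻¹ * (x * Γ.δ k * Γ.γ l)) := by
      intro g
      rw [T_apply, Finset.mul_sum]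
      refine Finset.sum_congr rfl fun k _ => ?_
      rw [Finset.mul_sum]
      refine Finset.sum_congr rfl fun l _ => ?_
      simp only [mul_assoc]
    rw [Finset.sum_congr rfl fun g _ => h1 g, Finset.sum_comm]
    refine Finset.sum_congr rfl fun k _ => ?_
    rw [Finset.sum_comm]
  have cv0 : ∀ x, cv (ind D) x = Nat.card D * φ x := by
    intro x
    show ∑ g, φ g * ind D (g⁻¹ * x) = _
    rw [← Equiv.sum_comp ((Equiv.inv G).trans (Equiv.mulLeft x)) (fun g => φ g * ind D (g⁻¹ * x))]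
    have h1 : ∀ g, φ (((Equiv.inv G).trans (Equiv.mulLeft x)) g) *
        ind D ((((Equiv.inv G).trans (Equiv.mulLeft x)) g)⁻¹ * x) = if g ∈ D then φ x else 0 := by
      intro g
      have e1 : ((Equiv.inv G).trans (Equiv.mulLeft x)) g = x * g⁻¹ := rfl
      rw [e1, mul_inv_rev, inv_inv, inv_mul_cancel_right]
      unfold ind
      by_cases hg : g ∈ D
      · rw [if_pos hg, if_pos hg, mul_one, hφr _ _ (D.inv_mem hg)]
      · rw [if_neg hg, if_neg hg, mul_zero]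
    rw [Finset.sum_congr rfl fun g _ => h1 g, ← Finset.sum_filter, Finset.sum_const, nsmul_eq_mul]
    congr 2
    rw [Nat.card_eq_fintype_card, Fintype.card_subtype]
  have cvs : ∀ s, ∀ x, cv (Γ.ph θ s) x = Nat.card D * (∏ q ∈ Finset.range s, ((t : ℂ) - θ q)) * φ x := by
    intro s
    induction s with
    | zero => intro x; rw [Finset.prod_range_zero, mul_one]; exact cv0 x
    | succ s ih =>
      intro x
      have h1 : cv (Γ.ph θ (s + 1)) x = cv (Γ.T (Γ.ph θ s)) x - θ s * cv (Γ.ph θ s) x := by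
        show ∑ g, φ g * (Γ.T (Γ.ph θ s) (g⁻¹ * x) - θ s * Γ.ph θ s (g⁻¹ * x)) = _
        show _ = ∑ g, φ g * Γ.T (Γ.ph θ s) (g⁻¹ * x) - θ s * ∑ g, φ g * Γ.ph θ s (g⁻¹ * x)
        rw [Finset.mul_sum, ← Finset.sum_sub_distrib]
        exact Finset.sum_congr rfl fun g _ => by ring
      have h2 : cv (Γ.ph θ s) = fun x => (Nat.card D * (∏ q ∈ Finset.range s, ((t : ℂ) - θ q))) * φ x := funext ih
      rw [h1, cvT, ih, h2, Tsmul, Tφ, Finset.prod_range_succ]
      ring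
  have hS : (v r Γ.z : ℂ) * ∑ g, φ g * φ g⁻¹ = Nat.card D * ∏ q ∈ Finset.range r, ((t : ℂ) - θ q) := by
    have h1 := cvs r 1
    rw [hφ1, mul_one] at h1
    rw [← h1, Finset.mul_sum]
    show _ = ∑ g, φ g * Γ.ph θ r (g⁻¹ * 1)
    refine Finset.sum_congr rfl fun g _ => ?_
    have h2 : φ g⁻¹ = (v r Γ.z : ℂ)⁻¹ * Γ.ph θ r g⁻¹ := rfl
    rw [h2, mul_one]
    field_simp
  refine ⟨χ, d, ?_⟩
  have h7 : (charDegree (χ : G → ℂ) : ℂ) * (Nat.card D * ∏ q ∈ Finset.range r, ((t : ℂ) - θ q)) =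
      d * (Nat.card G : ℂ) * v r Γ.z := by
    rw [← hS, ← hχ]
    ring
  have h8 : (((charDegree (χ : G → ℂ) : ℤ) * (Nat.card D : ℤ) * ∏ s ∈ Finset.range r, (t - θ s) : ℤ) : ℂ) =
      ((d * (Nat.card G : ℤ) * v r Γ.z : ℤ) : ℂ) := by
    push_cast
    rw [← h7]
    ring
  exact_mod_cast h8

end Cov

end Cfsg.Agent.H894.ThLine
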