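import Cfsg.Agent.H894.ThLine.Tab

/-!
Letters normalize the line, checks 0 (helper894)
-/

set_option autoImplicit false
set_option maxRecDepth 100000
set_option maxHeartbeats 4000000
set_option Elab.async false

namespace Cfsg.Agent.H894.ThLine

open Cfsg.Agent.Th Cfsg.Agent.Th.Words248 Cfsg.Agent.Th.Gen248 Cfsg.Agent.Th.Hom248

theorem ckD0_0 : dlc 0 = true := by decide +kernel

theorem ckD0_1 : dlc 1 = true := by decide +kernel

theorem ckD0_2 : dlc 2 = true := by decide +kernel

theorem ckD0_3 : dlc 3 = true := by decide +kernel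

theorem ckD0_4 : dlc 4 = true := by decide +kernel

theorem ckD0_5 : dlc 5 = true := by decide +kernel

theorem ckD0_6 : dlc 6 = true := by decide +kernel

theorem ckD0_7 : dlc 7 = true := by decide +kernel

theorem ckD0_8 : dlc 8 = true := by decide +kernel

theorem ckD0_9 : dlc 9 = true := by decide +kernel

theorem ckD0_10 : dlc 10 = true := by decide +kernel

theorem ckD0_11 : dlc 11 = true := by decide +kernel

theorem ckD0_12 : dlc 12 = true := by decide +kernel

theorem ckD0 : ∀ q, 0 ≤ q → q < 13 → dlc q = true := by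
  intro q h1 h2
  interval_cases q
  · exact ckD0_0
  · exact ckD0_1
  · exact ckD0_2
  · exact ckD0_3
  · exact ckD0_4
  · exact ckD0_5
  · exact ckD0_6
  · exact ckD0_7
  · exact ckD0_8
  · exact ckD0_9
  · exact ckD0_10
  · exact ckD0_11
  · exact ckD0_12


end Cfsg.Agent.H894.ThLine
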