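import Cfsg.Agent.H894.ThLine.Tab

/-!
Letters normalize the line, checks 1 (helper894)
-/

set_option autoImplicit false
set_option maxRecDepth 100000
set_option maxHeartbeats 4000000
set_option Elab.async false

namespace Cfsg.Agent.H894.ThLine

open Cfsg.Agent.Th Cfsg.Agent.Th.Words248 Cfsg.Agent.Th.Gen248 Cfsg.Agent.Th.Hom248

theorem ckD1_13 : dlc 13 = true := by decide +kernel

theorem ckD1_14 : dlc 14 = true := by decide +kernel

theorem ckD1_15 : dlc 15 = true := by decide +kernel

theorem ckD1_16 : dlc 16 = true := by decide +kernel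

theorem ckD1_17 : dlc 17 = true := by decide +kernel

theorem ckD1_18 : dlc 18 = true := by decide +kernel

theorem ckD1_19 : dlc 19 = true := by decide +kernel

theorem ckD1_20 : dlc 20 = true := by decide +kernel

theorem ckD1_21 : dlc 21 = true := by decide +kernel

theorem ckD1_22 : dlc 22 = true := by decide +kernel

theorem ckD1_23 : dlc 23 = true := by decide +kernel

theorem ckD1_24 : dlc 24 = true := by decide +kernel

theorem ckD1 : ∀ q, 13 ≤ q → q < 25 → dlc q = true := by
  intro q h1 h2
  interval_cases q
  · exact ckD1_13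
  · exact ckD1_14
  · exact ckD1_15
  · exact ckD1_16
  · exact ckD1_17
  · exact ckD1_18
  · exact ckD1_19
  · exact ckD1_20
  · exact ckD1_21
  · exact ckD1_22
  · exact ckD1_23
  · exact ckD1_24


end Cfsg.Agent.H894.ThLine
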