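import Cfsg.Agent.H894.ThLine.Tab

/-!
Letters normalize the line, checks 2 (helper894)
-/

set_option autoImplicit false
set_option maxRecDepth 100000
set_option maxHeartbeats 4000000
set_option Elab.async false

namespace Cfsg.Agent.H894.ThLine

open Cfsg.Agent.Th Cfsg.Agent.Th.Words248 Cfsg.Agent.Th.Gen248 Cfsg.Agent.Th.Hom248

theorem ckD2_25 : dlc 25 = true := by decide +kernel

theorem ckD2_26 : dlc 26 = true := by decide +kernel

theorem ckD2_27 : dlc 27 = true := by decide +kernel

theorem ckD2_28 : dlc 28 = true := by decide +kernel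

theorem ckD2_29 : dlc 29 = true := by decide +kernel

theorem ckD2_30 : dlc 30 = true := by decide +kernel

theorem ckD2_31 : dlc 31 = true := by decide +kernel

theorem ckD2_32 : dlc 32 = true := by decide +kernel

theorem ckD2_33 : dlc 33 = true := by decide +kernel

theorem ckD2_34 : dlc 34 = true := by decide +kernel

theorem ckD2_35 : dlc 35 = true := by decide +kernel

theorem ckD2_36 : dlc 36 = true := by decide +kernel

theorem ckD2 : ∀ q, 25 ≤ q → q < 37 → dlc q = true := by
  intro q h1 h2
  interval_cases q
  · exact ckD2_25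
  · exact ckD2_26
  · exact ckD2_27
  · exact ckD2_28
  · exact ckD2_29
  · exact ckD2_30
  · exact ckD2_31
  · exact ckD2_32
  · exact ckD2_33
  · exact ckD2_34
  · exact ckD2_35
  · exact ckD2_36


end Cfsg.Agent.H894.ThLine
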