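import Cfsg.Agent.H894.ThLine.Tab

/-!
Involutions of the line, checks (helper894)
-/

set_option autoImplicit false
set_option maxRecDepth 100000
set_option maxHeartbeats 4000000
set_option Elab.async false

namespace Cfsg.Agent.H894.ThLine

open Cfsg.Agent.Th Cfsg.Agent.Th.Words248 Cfsg.Agent.Th.Gen248 Cfsg.Agent.Th.Hom248

theorem ckE_0 : Nat.beq (mul (mul (SM 0) (pm .a)) (SM ((31 - 0) % 31))) (EM 0) = true := by decide +kernel

theorem ckE_1 : Nat.beq (mul (mul (SM 1) (pm .a)) (SM ((31 - 1) % 31))) (EM 1) = true := by decide +kernel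

theorem ckE_2 : Nat.beq (mul (mul (SM 2) (pm .a)) (SM ((31 - 2) % 31))) (EM 2) = true := by decide +kernel

theorem ckE_3 : Nat.beq (mul (mul (SM 3) (pm .a)) (SM ((31 - 3) % 31))) (EM 3) = true := by decide +kernel

theorem ckE_4 : Nat.beq (mul (mul (SM 4) (pm .a)) (SM ((31 - 4) % 31))) (EM 4) = true := by decide +kernel

theorem ckE_5 : Nat.beq (mul (mul (SM 5) (pm .a)) (SM ((31 - 5) % 31))) (EM 5) = true := by decide +kernel

theorem ckE_6 : Nat.beq (mul (mul (SM 6) (pm .a)) (SM ((31 - 6) % 31))) (EM 6) = true := by decide +kernel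

theorem ckE_7 : Nat.beq (mul (mul (SM 7) (pm .a)) (SM ((31 - 7) % 31))) (EM 7) = true := by decide +kernel

theorem ckE_8 : Nat.beq (mul (mul (SM 8) (pm .a)) (SM ((31 - 8) % 31))) (EM 8) = true := by decide +kernel

theorem ckE_9 : Nat.beq (mul (mul (SM 9) (pm .a)) (SM ((31 - 9) % 31))) (EM 9) = true := by decide +kernel

theorem ckE_10 : Nat.beq (mul (mul (SM 10) (pm .a)) (SM ((31 - 10) % 31))) (EM 10) = true := by decide +kernel

theorem ckE_11 : Nat.beq (mul (mul (SM 11) (pm .a)) (SM ((31 - 11) % 31))) (EM 11) = true := by decide +kernel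

theorem ckE_12 : Nat.beq (mul (mul (SM 12) (pm .a)) (SM ((31 - 12) % 31))) (EM 12) = true := by decide +kernel

theorem ckE_13 : Nat.beq (mul (mul (SM 13) (pm .a)) (SM ((31 - 13) % 31))) (EM 13) = true := by decide +kernel

theorem ckE_14 : Nat.beq (mul (mul (SM 14) (pm .a)) (SM ((31 - 14) % 31))) (EM 14) = true := by decide +kernel

theorem ckE_15 : Nat.beq (mul (mul (SM 15) (pm .a)) (SM ((31 - 15) % 31))) (EM 15) = true := by decide +kernel

theorem ckE_16 : Nat.beq (mul (mul (SM 16) (pm .a)) (SM ((31 - 16) % 31))) (EM 16) = true := by decide +kernel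

theorem ckE_17 : Nat.beq (mul (mul (SM 17) (pm .a)) (SM ((31 - 17) % 31))) (EM 17) = true := by decide +kernel

theorem ckE_18 : Nat.beq (mul (mul (SM 18) (pm .a)) (SM ((31 - 18) % 31))) (EM 18) = true := by decide +kernel

theorem ckE_19 : Nat.beq (mul (mul (SM 19) (pm .a)) (SM ((31 - 19) % 31))) (EM 19) = true := by decide +kernel

theorem ckE_20 : Nat.beq (mul (mul (SM 20) (pm .a)) (SM ((31 - 20) % 31))) (EM 20) = true := by decide +kernel

theorem ckE_21 : Nat.beq (mul (mul (SM 21) (pm .a)) (SM ((31 - 21) % 31))) (EM 21) = true := by decide +kernel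

theorem ckE_22 : Nat.beq (mul (mul (SM 22) (pm .a)) (SM ((31 - 22) % 31))) (EM 22) = true := by decide +kernel

theorem ckE_23 : Nat.beq (mul (mul (SM 23) (pm .a)) (SM ((31 - 23) % 31))) (EM 23) = true := by decide +kernel

theorem ckE_24 : Nat.beq (mul (mul (SM 24) (pm .a)) (SM ((31 - 24) % 31))) (EM 24) = true := by decide +kernel

theorem ckE_25 : Nat.beq (mul (mul (SM 25) (pm .a)) (SM ((31 - 25) % 31))) (EM 25) = true := by decide +kernel

theorem ckE_26 : Nat.beq (mul (mul (SM 26) (pm .a)) (SM ((31 - 26) % 31))) (EM 26) = true := by decide +kernel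

theorem ckE_27 : Nat.beq (mul (mul (SM 27) (pm .a)) (SM ((31 - 27) % 31))) (EM 27) = true := by decide +kernel

theorem ckE_28 : Nat.beq (mul (mul (SM 28) (pm .a)) (SM ((31 - 28) % 31))) (EM 28) = true := by decide +kernel

theorem ckE_29 : Nat.beq (mul (mul (SM 29) (pm .a)) (SM ((31 - 29) % 31))) (EM 29) = true := by decide +kernel

theorem ckE_30 : Nat.beq (mul (mul (SM 30) (pm .a)) (SM ((31 - 30) % 31))) (EM 30) = true := by decide +kernel

theorem ckE : ∀ k, 0 ≤ k → k < 31 → Nat.beq (mul (mul (SM k) (pm .a)) (SM ((31 - k) % 31))) (EM k) = true := by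
  intro k h1 h2
  interval_cases k
  · exact ckE_0
  · exact ckE_1
  · exact ckE_2
  · exact ckE_3
  · exact ckE_4
  · exact ckE_5
  · exact ckE_6
  · exact ckE_7
  · exact ckE_8
  · exact ckE_9
  · exact ckE_10
  · exact ckE_11
  · exact ckE_12
  · exact ckE_13
  · exact ckE_14
  · exact ckE_15
  · exact ckE_16
  · exact ckE_17
  · exact ckE_18
  · exact ckE_19
  · exact ckE_20
  · exact ckE_21
  · exact ckE_22
  · exact ckE_23
  · exact ckE_24
  · exact ckE_25
  · exact ckE_26
  · exact ckE_27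
  · exact ckE_28
  · exact ckE_29
  · exact ckE_30

theorem ckEn : ∀ k < 30, Nat.beq (EM 0) (EM (k + 1)) = false := by decide +kernel

theorem ckE1 : Nat.beq (EM 0) idm = false := by decide +kernel

theorem ckEa : Nat.beq (EM 0) (pm .a) = true := by decide +kernel

theorem ckEc : Nat.beq (EM 30) (pm .c) = true := by decide +kernel

theorem ckZ : ∀ k < 30, Nat.beq (mul (EM 0) (EM (k + 1))) (EM (zeL.getD (k + 1) 0)) = true := by decide +kernel

theorem ckEe : ∀ k < 26, Nat.beq (mul (EM k) (EM (k + 2))) (EM (k + 5)) = true := by decide +kernel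

end Cfsg.Agent.H894.ThLine
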