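import Cfsg.Agent.H894.ThLine.Tab

/-!
Representatives, checks (helper894)
-/

set_option autoImplicit false
set_option maxRecDepth 100000
set_option maxHeartbeats 4000000
set_option Elab.async false

namespace Cfsg.Agent.H894.ThLine

open Cfsg.Agent.Th Cfsg.Agent.Th.Words248 Cfsg.Agent.Th.Gen248 Cfsg.Agent.Th.Hom248

theorem ckG0 : Nat.beq idm (GM 0) = true := by decide +kernel

theorem ckGi0 : Nat.beq idm (GiM 0) = true := by decide +kernel

theorem ckH0 : Nat.beq (mul (GM 0) (SM 0)) (HM 0) = true := by decide +kernel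

theorem ckHi0 : Nat.beq (mul (SM 0) (GiM 0)) (HiM 0) = true := by decide +kernel

theorem ckH1 : Nat.beq (mul (GM 1) (SM 1)) (HM 1) = true := by decide +kernel

theorem ckHi1 : Nat.beq (mul (SM 30) (GiM 1)) (HiM 1) = true := by decide +kernel

theorem ckH2 : Nat.beq (mul (GM 2) (SM 1)) (HM 2) = true := by decide +kernel

theorem ckHi2 : Nat.beq (mul (SM 30) (GiM 2)) (HiM 2) = true := by decide +kernel

theorem ckH3 : Nat.beq (mul (GM 2) (SM 4)) (HM 3) = true := by decide +kernel

theorem ckHi3 : Nat.beq (mul (SM 27) (GiM 2)) (HiM 3) = true := by decide +kernel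

theorem ckH4 : Nat.beq (mul (GM 3) (SM 1)) (HM 4) = true := by decide +kernel

theorem ckHi4 : Nat.beq (mul (SM 30) (GiM 3)) (HiM 4) = true := by decide +kernel

theorem ckH5 : Nat.beq (mul (GM 3) (SM 2)) (HM 5) = true := by decide +kernel

theorem ckHi5 : Nat.beq (mul (SM 29) (GiM 3)) (HiM 5) = true := by decide +kernel

theorem ckH6 : Nat.beq (mul (GM 3) (SM 4)) (HM 6) = true := by decide +kernel

theorem ckHi6 : Nat.beq (mul (SM 27) (GiM 3)) (HiM 6) = true := by decide +kernel

theorem ckH7 : Nat.beq (mul (GM 4) (SM 1)) (HM 7) = true := by decide +kernel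

theorem ckHi7 : Nat.beq (mul (SM 30) (GiM 4)) (HiM 7) = true := by decide +kernel

theorem ckH8 : Nat.beq (mul (GM 4) (SM 9)) (HM 8) = true := by decide +kernel

theorem ckHi8 : Nat.beq (mul (SM 22) (GiM 4)) (HiM 8) = true := by decide +kernel

theorem ckH9 : Nat.beq (mul (GM 5) (SM 1)) (HM 9) = true := by decide +kernel

theorem ckHi9 : Nat.beq (mul (SM 30) (GiM 5)) (HiM 9) = true := by decide +kernel

theorem ckH10 : Nat.beq (mul (GM 5) (SM 2)) (HM 10) = true := by decide +kernel

theorem ckHi10 : Nat.beq (mul (SM 29) (GiM 5)) (HiM 10) = true := by decide +kernel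

theorem ckH11 : Nat.beq (mul (GM 5) (SM 12)) (HM 11) = true := by decide +kernel

theorem ckHi11 : Nat.beq (mul (SM 19) (GiM 5)) (HiM 11) = true := by decide +kernel

theorem ckG1 : Nat.beq (mul (HM 0) (TM 1)) (GM 1) = true := by decide +kernel

theorem ckGi1 : Nat.beq (mul (TM 8) (HiM 0)) (GiM 1) = true := by decide +kernel

theorem ckG2 : Nat.beq (mul (HM 1) (TM 1)) (GM 2) = true := by decide +kernel

theorem ckGi2 : Nat.beq (mul (TM 8) (HiM 1)) (GiM 2) = true := by decide +kernel

theorem ckG3 : Nat.beq (mul (HM 2) (TM 1)) (GM 3) = true := by decide +kernel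

theorem ckGi3 : Nat.beq (mul (TM 8) (HiM 2)) (GiM 3) = true := by decide +kernel

theorem ckG4 : Nat.beq (mul (HM 3) (TM 1)) (GM 4) = true := by decide +kernel

theorem ckGi4 : Nat.beq (mul (TM 8) (HiM 3)) (GiM 4) = true := by decide +kernel

theorem ckG5 : Nat.beq (mul (HM 4) (TM 1)) (GM 5) = true := by decide +kernel

theorem ckGi5 : Nat.beq (mul (TM 8) (HiM 4)) (GiM 5) = true := by decide +kernel

theorem ckG6 : Nat.beq (mul (HM 5) (TM 1)) (GM 6) = true := by decide +kernel

theorem ckGi6 : Nat.beq (mul (TM 8) (HiM 5)) (GiM 6) = true := by decide +kernel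

theorem ckG7 : Nat.beq (mul (HM 6) (TM 1)) (GM 7) = true := by decide +kernel

theorem ckGi7 : Nat.beq (mul (TM 8) (HiM 6)) (GiM 7) = true := by decide +kernel

theorem ckG8 : Nat.beq (mul (HM 9) (TM 4)) (GM 8) = true := by decide +kernel

theorem ckGi8 : Nat.beq (mul (TM 5) (HiM 9)) (GiM 8) = true := by decide +kernel

theorem ckG9 : Nat.beq (mul (HM 11) (TM 5)) (GM 9) = true := by decide +kernel

theorem ckGi9 : Nat.beq (mul (TM 4) (HiM 11)) (GiM 9) = true := by decide +kernel

theorem ckG10 : Nat.beq (mul (HM 11) (TM 7)) (GM 10) = true := by decide +kernel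

theorem ckGi10 : Nat.beq (mul (TM 2) (HiM 11)) (GiM 10) = true := by decide +kernel

/-- the generator `b` -/
theorem ckB : chkC (mul (wpr LM (HiM 3) [8,31,10,7]) (pm .b)) = true := by decide +kernel

end Cfsg.Agent.H894.ThLine
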