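import Cfsg.Agent.H894.ThLine.Tab

/-!
Letters, checks 1 (helper894)
-/

set_option autoImplicit false
set_option maxRecDepth 100000
set_option maxHeartbeats 4000000
set_option Elab.async false

namespace Cfsg.Agent.H894.ThLine

open Cfsg.Agent.Th Cfsg.Agent.Th.Words248 Cfsg.Agent.Th.Gen248 Cfsg.Agent.Th.Hom248

theorem ckL1_0 : Nat.beq (evl idm (lwd 0)) (LM 0) = true := by decide +kernel

theorem ckL1_1 : Nat.beq (evl idm (lwd 1)) (LM 1) = true := by decide +kernel

theorem ckL1_2 : Nat.beq (evl idm (lwd 2)) (LM 2) = true := by decide +kernel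

theorem ckL1_3 : Nat.beq (evl idm (lwd 3)) (LM 3) = true := by decide +kernel

theorem ckL1_4 : Nat.beq (evl idm (lwd 4)) (LM 4) = true := by decide +kernel

theorem ckL1_5 : Nat.beq (evl idm (lwd 5)) (LM 5) = true := by decide +kernel

theorem ckL1_6 : Nat.beq (evl idm (lwd 6)) (LM 6) = true := by decide +kernel

theorem ckL1_7 : Nat.beq (evl idm (lwd 7)) (LM 7) = true := by decide +kernel

theorem ckL1_8 : Nat.beq (evl idm (lwd 8)) (LM 8) = true := by decide +kernel

theorem ckL1_9 : Nat.beq (evl idm (lwd 9)) (LM 9) = true := by decide +kernel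

theorem ckL1_10 : Nat.beq (evl idm (lwd 10)) (LM 10) = true := by decide +kernel

theorem ckL1_11 : Nat.beq (evl idm (lwd 11)) (LM 11) = true := by decide +kernel

theorem ckL1_12 : Nat.beq (evl idm (lwd 12)) (LM 12) = true := by decide +kernel

theorem ckL1_13 : Nat.beq (evl idm (lwd 13)) (LM 13) = true := by decide +kernel

theorem ckL1_14 : Nat.beq (evl idm (lwd 14)) (LM 14) = true := by decide +kernel

theorem ckL1_15 : Nat.beq (evl idm (lwd 15)) (LM 15) = true := by decide +kernel

theorem ckL1_16 : Nat.beq (evl idm (lwd 16)) (LM 16) = true := by decide +kernel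

theorem ckL1_17 : Nat.beq (evl idm (lwd 17)) (LM 17) = true := by decide +kernel

theorem ckL1_18 : Nat.beq (evl idm (lwd 18)) (LM 18) = true := by decide +kernel

theorem ckL1_19 : Nat.beq (evl idm (lwd 19)) (LM 19) = true := by decide +kernel

theorem ckL1 : ∀ q, 0 ≤ q → q < 20 → Nat.beq (evl idm (lwd q)) (LM q) = true := by
  intro q h1 h2
  interval_cases q
  · exact ckL1_0
  · exact ckL1_1
  · exact ckL1_2
  · exact ckL1_3
  · exact ckL1_4
  · exact ckL1_5
  · exact ckL1_6
  · exact ckL1_7
  · exact ckL1_8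
  · exact ckL1_9
  · exact ckL1_10
  · exact ckL1_11
  · exact ckL1_12
  · exact ckL1_13
  · exact ckL1_14
  · exact ckL1_15
  · exact ckL1_16
  · exact ckL1_17
  · exact ckL1_18
  · exact ckL1_19


end Cfsg.Agent.H894.ThLine
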