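import Cfsg.Agent.H894.ThLine.Tab

/-!
Letters, checks 2 (helper894)
-/

set_option autoImplicit false
set_option maxRecDepth 100000
set_option maxHeartbeats 4000000
set_option Elab.async false

namespace Cfsg.Agent.H894.ThLine

open Cfsg.Agent.Th Cfsg.Agent.Th.Words248 Cfsg.Agent.Th.Gen248 Cfsg.Agent.Th.Hom248

theorem ckL2_20 : Nat.beq (evl idm (lwd 20)) (LM 20) = true := by decide +kernel

theorem ckL2_21 : Nat.beq (evl idm (lwd 21)) (LM 21) = true := by decide +kernel

theorem ckL2_22 : Nat.beq (evl idm (lwd 22)) (LM 22) = true := by decide +kernel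

theorem ckL2_23 : Nat.beq (evl idm (lwd 23)) (LM 23) = true := by decide +kernel

theorem ckL2_24 : Nat.beq (evl idm (lwd 24)) (LM 24) = true := by decide +kernel

theorem ckL2_25 : Nat.beq (evl idm (lwd 25)) (LM 25) = true := by decide +kernel

theorem ckL2_26 : Nat.beq (evl idm (lwd 26)) (LM 26) = true := by decide +kernel

theorem ckL2_27 : Nat.beq (evl idm (lwd 27)) (LM 27) = true := by decide +kernel

theorem ckL2_28 : Nat.beq (evl idm (lwd 28)) (LM 28) = true := by decide +kernel

theorem ckL2_29 : Nat.beq (evl idm (lwd 29)) (LM 29) = true := by decide +kernel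

theorem ckL2_30 : Nat.beq (evl idm (lwd 30)) (LM 30) = true := by decide +kernel

theorem ckL2_31 : Nat.beq (evl idm (lwd 31)) (LM 31) = true := by decide +kernel

theorem ckL2_32 : Nat.beq (evl idm (lwd 32)) (LM 32) = true := by decide +kernel

theorem ckL2_33 : Nat.beq (evl idm (lwd 33)) (LM 33) = true := by decide +kernel

theorem ckL2_34 : Nat.beq (evl idm (lwd 34)) (LM 34) = true := by decide +kernel

theorem ckL2_35 : Nat.beq (evl idm (lwd 35)) (LM 35) = true := by decide +kernel

theorem ckL2_36 : Nat.beq (evl idm (lwd 36)) (LM 36) = true := by decide +kernel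

theorem ckL2 : ∀ q, 20 ≤ q → q < 37 → Nat.beq (evl idm (lwd q)) (LM q) = true := by
  intro q h1 h2
  interval_cases q
  · exact ckL2_20
  · exact ckL2_21
  · exact ckL2_22
  · exact ckL2_23
  · exact ckL2_24
  · exact ckL2_25
  · exact ckL2_26
  · exact ckL2_27
  · exact ckL2_28
  · exact ckL2_29
  · exact ckL2_30
  · exact ckL2_31
  · exact ckL2_32
  · exact ckL2_33
  · exact ckL2_34
  · exact ckL2_35
  · exact ckL2_36


end Cfsg.Agent.H894.ThLine
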