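import Cfsg.Agent.H894.ThLine.Tab

/-!
Points of the line representative 0, checks (helper894)
-/

set_option autoImplicit false
set_option maxRecDepth 100000
set_option maxHeartbeats 4000000
set_option Elab.async false

namespace Cfsg.Agent.H894.ThLine

open Cfsg.Agent.Th Cfsg.Agent.Th.Words248 Cfsg.Agent.Th.Gen248 Cfsg.Agent.Th.Hom248

theorem ckLP0_0 : lpc 0 0 = true := by decide +kernel

theorem ckLP0_1 : lpc 0 1 = true := by decide +kernel

theorem ckLP0_2 : lpc 0 2 = true := by decide +kernel

theorem ckLP0_3 : lpc 0 3 = true := by decide +kernel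

theorem ckLP0_4 : lpc 0 4 = true := by decide +kernel

theorem ckLP0_5 : lpc 0 5 = true := by decide +kernel

theorem ckLP0_6 : lpc 0 6 = true := by decide +kernel

theorem ckLP0_7 : lpc 0 7 = true := by decide +kernel

theorem ckLP0_8 : lpc 0 8 = true := by decide +kernel

theorem ckLP0_9 : lpc 0 9 = true := by decide +kernel

theorem ckLP0_10 : lpc 0 10 = true := by decide +kernel

theorem ckLP0_11 : lpc 0 11 = true := by decide +kernel

theorem ckLP0_12 : lpc 0 12 = true := by decide +kernel

theorem ckLP0_13 : lpc 0 13 = true := by decide +kernel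

theorem ckLP0_14 : lpc 0 14 = true := by decide +kernel

theorem ckLP0_15 : lpc 0 15 = true := by decide +kernel

theorem ckLP0_16 : lpc 0 16 = true := by decide +kernel

theorem ckLP0_17 : lpc 0 17 = true := by decide +kernel

theorem ckLP0_18 : lpc 0 18 = true := by decide +kernel

theorem ckLP0_19 : lpc 0 19 = true := by decide +kernel

theorem ckLP0_20 : lpc 0 20 = true := by decide +kernel

theorem ckLP0_21 : lpc 0 21 = true := by decide +kernel

theorem ckLP0_22 : lpc 0 22 = true := by decide +kernel

theorem ckLP0_23 : lpc 0 23 = true := by decide +kernel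

theorem ckLP0_24 : lpc 0 24 = true := by decide +kernel

theorem ckLP0_25 : lpc 0 25 = true := by decide +kernel

theorem ckLP0_26 : lpc 0 26 = true := by decide +kernel

theorem ckLP0_27 : lpc 0 27 = true := by decide +kernel

theorem ckLP0_28 : lpc 0 28 = true := by decide +kernel

theorem ckLP0_29 : lpc 0 29 = true := by decide +kernel

theorem ckLP0_30 : lpc 0 30 = true := by decide +kernel

theorem ckLP0 : ∀ k, 0 ≤ k → k < 31 → lpc 0 k = true := by
  intro k h1 h2
  interval_cases k
  · exact ckLP0_0
  · exact ckLP0_1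
  · exact ckLP0_2
  · exact ckLP0_3
  · exact ckLP0_4
  · exact ckLP0_5
  · exact ckLP0_6
  · exact ckLP0_7
  · exact ckLP0_8
  · exact ckLP0_9
  · exact ckLP0_10
  · exact ckLP0_11
  · exact ckLP0_12
  · exact ckLP0_13
  · exact ckLP0_14
  · exact ckLP0_15
  · exact ckLP0_16
  · exact ckLP0_17
  · exact ckLP0_18
  · exact ckLP0_19
  · exact ckLP0_20
  · exact ckLP0_21
  · exact ckLP0_22
  · exact ckLP0_23
  · exact ckLP0_24
  · exact ckLP0_25
  · exact ckLP0_26
  · exact ckLP0_27
  · exact ckLP0_28
  · exact ckLP0_29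
  · exact ckLP0_30


end Cfsg.Agent.H894.ThLine
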