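import Cfsg.Agent.H894.ThLine.Tab

/-!
Points of the line representative 1, checks (helper894)
-/

set_option autoImplicit false
set_option maxRecDepth 100000
set_option maxHeartbeats 4000000
set_option Elab.async false

namespace Cfsg.Agent.H894.ThLine

open Cfsg.Agent.Th Cfsg.Agent.Th.Words248 Cfsg.Agent.Th.Gen248 Cfsg.Agent.Th.Hom248

theorem ckLP1_0 : lpc 1 0 = true := by decide +kernel

theorem ckLP1_1 : lpc 1 1 = true := by decide +kernel

theorem ckLP1_2 : lpc 1 2 = true := by decide +kernel

theorem ckLP1_3 : lpc 1 3 = true := by decide +kernel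

theorem ckLP1_4 : lpc 1 4 = true := by decide +kernel

theorem ckLP1_5 : lpc 1 5 = true := by decide +kernel

theorem ckLP1_6 : lpc 1 6 = true := by decide +kernel

theorem ckLP1_7 : lpc 1 7 = true := by decide +kernel

theorem ckLP1_8 : lpc 1 8 = true := by decide +kernel

theorem ckLP1_9 : lpc 1 9 = true := by decide +kernel

theorem ckLP1_10 : lpc 1 10 = true := by decide +kernel

theorem ckLP1_11 : lpc 1 11 = true := by decide +kernel

theorem ckLP1_12 : lpc 1 12 = true := by decide +kernel

theorem ckLP1_13 : lpc 1 13 = true := by decide +kernel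

theorem ckLP1_14 : lpc 1 14 = true := by decide +kernel

theorem ckLP1_15 : lpc 1 15 = true := by decide +kernel

theorem ckLP1_16 : lpc 1 16 = true := by decide +kernel

theorem ckLP1_17 : lpc 1 17 = true := by decide +kernel

theorem ckLP1_18 : lpc 1 18 = true := by decide +kernel

theorem ckLP1_19 : lpc 1 19 = true := by decide +kernel

theorem ckLP1_20 : lpc 1 20 = true := by decide +kernel

theorem ckLP1_21 : lpc 1 21 = true := by decide +kernel

theorem ckLP1_22 : lpc 1 22 = true := by decide +kernel

theorem ckLP1_23 : lpc 1 23 = true := by decide +kernel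

theorem ckLP1_24 : lpc 1 24 = true := by decide +kernel

theorem ckLP1_25 : lpc 1 25 = true := by decide +kernel

theorem ckLP1_26 : lpc 1 26 = true := by decide +kernel

theorem ckLP1_27 : lpc 1 27 = true := by decide +kernel

theorem ckLP1_28 : lpc 1 28 = true := by decide +kernel

theorem ckLP1_29 : lpc 1 29 = true := by decide +kernel

theorem ckLP1_30 : lpc 1 30 = true := by decide +kernel

theorem ckLP1 : ∀ k, 0 ≤ k → k < 31 → lpc 1 k = true := by
  intro k h1 h2
  interval_cases k
  · exact ckLP1_0
  · exact ckLP1_1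
  · exact ckLP1_2
  · exact ckLP1_3
  · exact ckLP1_4
  · exact ckLP1_5
  · exact ckLP1_6
  · exact ckLP1_7
  · exact ckLP1_8
  · exact ckLP1_9
  · exact ckLP1_10
  · exact ckLP1_11
  · exact ckLP1_12
  · exact ckLP1_13
  · exact ckLP1_14
  · exact ckLP1_15
  · exact ckLP1_16
  · exact ckLP1_17
  · exact ckLP1_18
  · exact ckLP1_19
  · exact ckLP1_20
  · exact ckLP1_21
  · exact ckLP1_22
  · exact ckLP1_23
  · exact ckLP1_24
  · exact ckLP1_25
  · exact ckLP1_26
  · exact ckLP1_27
  · exact ckLP1_28
  · exact ckLP1_29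
  · exact ckLP1_30


end Cfsg.Agent.H894.ThLine
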