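import Cfsg.Agent.H894.ThLine.Tab

/-!
Points of the line representative 10, checks (helper894)
-/

set_option autoImplicit false
set_option maxRecDepth 100000
set_option maxHeartbeats 4000000
set_option Elab.async false

namespace Cfsg.Agent.H894.ThLine

open Cfsg.Agent.Th Cfsg.Agent.Th.Words248 Cfsg.Agent.Th.Gen248 Cfsg.Agent.Th.Hom248

theorem ckLP10_0 : lpc 10 0 = true := by decide +kernel

theorem ckLP10_1 : lpc 10 1 = true := by decide +kernel

theorem ckLP10_2 : lpc 10 2 = true := by decide +kernel

theorem ckLP10_3 : lpc 10 3 = true := by decide +kernel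

theorem ckLP10_4 : lpc 10 4 = true := by decide +kernel

theorem ckLP10_5 : lpc 10 5 = true := by decide +kernel

theorem ckLP10_6 : lpc 10 6 = true := by decide +kernel

theorem ckLP10_7 : lpc 10 7 = true := by decide +kernel

theorem ckLP10_8 : lpc 10 8 = true := by decide +kernel

theorem ckLP10_9 : lpc 10 9 = true := by decide +kernel

theorem ckLP10_10 : lpc 10 10 = true := by decide +kernel

theorem ckLP10_11 : lpc 10 11 = true := by decide +kernel

theorem ckLP10_12 : lpc 10 12 = true := by decide +kernel

theorem ckLP10_13 : lpc 10 13 = true := by decide +kernel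

theorem ckLP10_14 : lpc 10 14 = true := by decide +kernel

theorem ckLP10_15 : lpc 10 15 = true := by decide +kernel

theorem ckLP10_16 : lpc 10 16 = true := by decide +kernel

theorem ckLP10_17 : lpc 10 17 = true := by decide +kernel

theorem ckLP10_18 : lpc 10 18 = true := by decide +kernel

theorem ckLP10_19 : lpc 10 19 = true := by decide +kernel

theorem ckLP10_20 : lpc 10 20 = true := by decide +kernel

theorem ckLP10_21 : lpc 10 21 = true := by decide +kernel

theorem ckLP10_22 : lpc 10 22 = true := by decide +kernel

theorem ckLP10_23 : lpc 10 23 = true := by decide +kernel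

theorem ckLP10_24 : lpc 10 24 = true := by decide +kernel

theorem ckLP10_25 : lpc 10 25 = true := by decide +kernel

theorem ckLP10_26 : lpc 10 26 = true := by decide +kernel

theorem ckLP10_27 : lpc 10 27 = true := by decide +kernel

theorem ckLP10_28 : lpc 10 28 = true := by decide +kernel

theorem ckLP10_29 : lpc 10 29 = true := by decide +kernel

theorem ckLP10_30 : lpc 10 30 = true := by decide +kernel

theorem ckLP10 : ∀ k, 0 ≤ k → k < 31 → lpc 10 k = true := by
  intro k h1 h2
  interval_cases k
  · exact ckLP10_0
  · exact ckLP10_1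
  · exact ckLP10_2
  · exact ckLP10_3
  · exact ckLP10_4
  · exact ckLP10_5
  · exact ckLP10_6
  · exact ckLP10_7
  · exact ckLP10_8
  · exact ckLP10_9
  · exact ckLP10_10
  · exact ckLP10_11
  · exact ckLP10_12
  · exact ckLP10_13
  · exact ckLP10_14
  · exact ckLP10_15
  · exact ckLP10_16
  · exact ckLP10_17
  · exact ckLP10_18
  · exact ckLP10_19
  · exact ckLP10_20
  · exact ckLP10_21
  · exact ckLP10_22
  · exact ckLP10_23
  · exact ckLP10_24
  · exact ckLP10_25
  · exact ckLP10_26
  · exact ckLP10_27
  · exact ckLP10_28
  · exact ckLP10_29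
  · exact ckLP10_30


end Cfsg.Agent.H894.ThLine
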