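import Cfsg.Agent.H894.ThLine.Tab

/-!
Points of the line representative 2, checks (helper894)
-/

set_option autoImplicit false
set_option maxRecDepth 100000
set_option maxHeartbeats 4000000
set_option Elab.async false

namespace Cfsg.Agent.H894.ThLine

open Cfsg.Agent.Th Cfsg.Agent.Th.Words248 Cfsg.Agent.Th.Gen248 Cfsg.Agent.Th.Hom248

theorem ckLP2_0 : lpc 2 0 = true := by decide +kernel

theorem ckLP2_1 : lpc 2 1 = true := by decide +kernel

theorem ckLP2_2 : lpc 2 2 = true := by decide +kernel

theorem ckLP2_3 : lpc 2 3 = true := by decide +kernel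

theorem ckLP2_4 : lpc 2 4 = true := by decide +kernel

theorem ckLP2_5 : lpc 2 5 = true := by decide +kernel

theorem ckLP2_6 : lpc 2 6 = true := by decide +kernel

theorem ckLP2_7 : lpc 2 7 = true := by decide +kernel

theorem ckLP2_8 : lpc 2 8 = true := by decide +kernel

theorem ckLP2_9 : lpc 2 9 = true := by decide +kernel

theorem ckLP2_10 : lpc 2 10 = true := by decide +kernel

theorem ckLP2_11 : lpc 2 11 = true := by decide +kernel

theorem ckLP2_12 : lpc 2 12 = true := by decide +kernel

theorem ckLP2_13 : lpc 2 13 = true := by decide +kernel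

theorem ckLP2_14 : lpc 2 14 = true := by decide +kernel

theorem ckLP2_15 : lpc 2 15 = true := by decide +kernel

theorem ckLP2_16 : lpc 2 16 = true := by decide +kernel

theorem ckLP2_17 : lpc 2 17 = true := by decide +kernel

theorem ckLP2_18 : lpc 2 18 = true := by decide +kernel

theorem ckLP2_19 : lpc 2 19 = true := by decide +kernel

theorem ckLP2_20 : lpc 2 20 = true := by decide +kernel

theorem ckLP2_21 : lpc 2 21 = true := by decide +kernel

theorem ckLP2_22 : lpc 2 22 = true := by decide +kernel

theorem ckLP2_23 : lpc 2 23 = true := by decide +kernel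

theorem ckLP2_24 : lpc 2 24 = true := by decide +kernel

theorem ckLP2_25 : lpc 2 25 = true := by decide +kernel

theorem ckLP2_26 : lpc 2 26 = true := by decide +kernel

theorem ckLP2_27 : lpc 2 27 = true := by decide +kernel

theorem ckLP2_28 : lpc 2 28 = true := by decide +kernel

theorem ckLP2_29 : lpc 2 29 = true := by decide +kernel

theorem ckLP2_30 : lpc 2 30 = true := by decide +kernel

theorem ckLP2 : ∀ k, 0 ≤ k → k < 31 → lpc 2 k = true := by
  intro k h1 h2
  interval_cases k
  · exact ckLP2_0
  · exact ckLP2_1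
  · exact ckLP2_2
  · exact ckLP2_3
  · exact ckLP2_4
  · exact ckLP2_5
  · exact ckLP2_6
  · exact ckLP2_7
  · exact ckLP2_8
  · exact ckLP2_9
  · exact ckLP2_10
  · exact ckLP2_11
  · exact ckLP2_12
  · exact ckLP2_13
  · exact ckLP2_14
  · exact ckLP2_15
  · exact ckLP2_16
  · exact ckLP2_17
  · exact ckLP2_18
  · exact ckLP2_19
  · exact ckLP2_20
  · exact ckLP2_21
  · exact ckLP2_22
  · exact ckLP2_23
  · exact ckLP2_24
  · exact ckLP2_25
  · exact ckLP2_26
  · exact ckLP2_27
  · exact ckLP2_28
  · exact ckLP2_29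
  · exact ckLP2_30


end Cfsg.Agent.H894.ThLine
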