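import Cfsg.Agent.H894.ThLine.Tab

/-!
Points of the line representative 3, checks (helper894)
-/

set_option autoImplicit false
set_option maxRecDepth 100000
set_option maxHeartbeats 4000000
set_option Elab.async false

namespace Cfsg.Agent.H894.ThLine

open Cfsg.Agent.Th Cfsg.Agent.Th.Words248 Cfsg.Agent.Th.Gen248 Cfsg.Agent.Th.Hom248

theorem ckLP3_0 : lpc 3 0 = true := by decide +kernel

theorem ckLP3_1 : lpc 3 1 = true := by decide +kernel

theorem ckLP3_2 : lpc 3 2 = true := by decide +kernel

theorem ckLP3_3 : lpc 3 3 = true := by decide +kernel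

theorem ckLP3_4 : lpc 3 4 = true := by decide +kernel

theorem ckLP3_5 : lpc 3 5 = true := by decide +kernel

theorem ckLP3_6 : lpc 3 6 = true := by decide +kernel

theorem ckLP3_7 : lpc 3 7 = true := by decide +kernel

theorem ckLP3_8 : lpc 3 8 = true := by decide +kernel

theorem ckLP3_9 : lpc 3 9 = true := by decide +kernel

theorem ckLP3_10 : lpc 3 10 = true := by decide +kernel

theorem ckLP3_11 : lpc 3 11 = true := by decide +kernel

theorem ckLP3_12 : lpc 3 12 = true := by decide +kernel

theorem ckLP3_13 : lpc 3 13 = true := by decide +kernel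

theorem ckLP3_14 : lpc 3 14 = true := by decide +kernel

theorem ckLP3_15 : lpc 3 15 = true := by decide +kernel

theorem ckLP3_16 : lpc 3 16 = true := by decide +kernel

theorem ckLP3_17 : lpc 3 17 = true := by decide +kernel

theorem ckLP3_18 : lpc 3 18 = true := by decide +kernel

theorem ckLP3_19 : lpc 3 19 = true := by decide +kernel

theorem ckLP3_20 : lpc 3 20 = true := by decide +kernel

theorem ckLP3_21 : lpc 3 21 = true := by decide +kernel

theorem ckLP3_22 : lpc 3 22 = true := by decide +kernel

theorem ckLP3_23 : lpc 3 23 = true := by decide +kernel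

theorem ckLP3_24 : lpc 3 24 = true := by decide +kernel

theorem ckLP3_25 : lpc 3 25 = true := by decide +kernel

theorem ckLP3_26 : lpc 3 26 = true := by decide +kernel

theorem ckLP3_27 : lpc 3 27 = true := by decide +kernel

theorem ckLP3_28 : lpc 3 28 = true := by decide +kernel

theorem ckLP3_29 : lpc 3 29 = true := by decide +kernel

theorem ckLP3_30 : lpc 3 30 = true := by decide +kernel

theorem ckLP3 : ∀ k, 0 ≤ k → k < 31 → lpc 3 k = true := by
  intro k h1 h2
  interval_cases k
  · exact ckLP3_0
  · exact ckLP3_1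
  · exact ckLP3_2
  · exact ckLP3_3
  · exact ckLP3_4
  · exact ckLP3_5
  · exact ckLP3_6
  · exact ckLP3_7
  · exact ckLP3_8
  · exact ckLP3_9
  · exact ckLP3_10
  · exact ckLP3_11
  · exact ckLP3_12
  · exact ckLP3_13
  · exact ckLP3_14
  · exact ckLP3_15
  · exact ckLP3_16
  · exact ckLP3_17
  · exact ckLP3_18
  · exact ckLP3_19
  · exact ckLP3_20
  · exact ckLP3_21
  · exact ckLP3_22
  · exact ckLP3_23
  · exact ckLP3_24
  · exact ckLP3_25
  · exact ckLP3_26
  · exact ckLP3_27
  · exact ckLP3_28
  · exact ckLP3_29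
  · exact ckLP3_30


end Cfsg.Agent.H894.ThLine
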