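import Cfsg.Agent.H894.ThLine.Tab

/-!
Points of the line representative 4, checks (helper894)
-/

set_option autoImplicit false
set_option maxRecDepth 100000
set_option maxHeartbeats 4000000
set_option Elab.async false

namespace Cfsg.Agent.H894.ThLine

open Cfsg.Agent.Th Cfsg.Agent.Th.Words248 Cfsg.Agent.Th.Gen248 Cfsg.Agent.Th.Hom248

theorem ckLP4_0 : lpc 4 0 = true := by decide +kernel

theorem ckLP4_1 : lpc 4 1 = true := by decide +kernel

theorem ckLP4_2 : lpc 4 2 = true := by decide +kernel

theorem ckLP4_3 : lpc 4 3 = true := by decide +kernel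

theorem ckLP4_4 : lpc 4 4 = true := by decide +kernel

theorem ckLP4_5 : lpc 4 5 = true := by decide +kernel

theorem ckLP4_6 : lpc 4 6 = true := by decide +kernel

theorem ckLP4_7 : lpc 4 7 = true := by decide +kernel

theorem ckLP4_8 : lpc 4 8 = true := by decide +kernel

theorem ckLP4_9 : lpc 4 9 = true := by decide +kernel

theorem ckLP4_10 : lpc 4 10 = true := by decide +kernel

theorem ckLP4_11 : lpc 4 11 = true := by decide +kernel

theorem ckLP4_12 : lpc 4 12 = true := by decide +kernel

theorem ckLP4_13 : lpc 4 13 = true := by decide +kernel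

theorem ckLP4_14 : lpc 4 14 = true := by decide +kernel

theorem ckLP4_15 : lpc 4 15 = true := by decide +kernel

theorem ckLP4_16 : lpc 4 16 = true := by decide +kernel

theorem ckLP4_17 : lpc 4 17 = true := by decide +kernel

theorem ckLP4_18 : lpc 4 18 = true := by decide +kernel

theorem ckLP4_19 : lpc 4 19 = true := by decide +kernel

theorem ckLP4_20 : lpc 4 20 = true := by decide +kernel

theorem ckLP4_21 : lpc 4 21 = true := by decide +kernel

theorem ckLP4_22 : lpc 4 22 = true := by decide +kernel

theorem ckLP4_23 : lpc 4 23 = true := by decide +kernel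

theorem ckLP4_24 : lpc 4 24 = true := by decide +kernel

theorem ckLP4_25 : lpc 4 25 = true := by decide +kernel

theorem ckLP4_26 : lpc 4 26 = true := by decide +kernel

theorem ckLP4_27 : lpc 4 27 = true := by decide +kernel

theorem ckLP4_28 : lpc 4 28 = true := by decide +kernel

theorem ckLP4_29 : lpc 4 29 = true := by decide +kernel

theorem ckLP4_30 : lpc 4 30 = true := by decide +kernel

theorem ckLP4 : ∀ k, 0 ≤ k → k < 31 → lpc 4 k = true := by
  intro k h1 h2
  interval_cases k
  · exact ckLP4_0
  · exact ckLP4_1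
  · exact ckLP4_2
  · exact ckLP4_3
  · exact ckLP4_4
  · exact ckLP4_5
  · exact ckLP4_6
  · exact ckLP4_7
  · exact ckLP4_8
  · exact ckLP4_9
  · exact ckLP4_10
  · exact ckLP4_11
  · exact ckLP4_12
  · exact ckLP4_13
  · exact ckLP4_14
  · exact ckLP4_15
  · exact ckLP4_16
  · exact ckLP4_17
  · exact ckLP4_18
  · exact ckLP4_19
  · exact ckLP4_20
  · exact ckLP4_21
  · exact ckLP4_22
  · exact ckLP4_23
  · exact ckLP4_24
  · exact ckLP4_25
  · exact ckLP4_26
  · exact ckLP4_27
  · exact ckLP4_28
  · exact ckLP4_29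
  · exact ckLP4_30


end Cfsg.Agent.H894.ThLine
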