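import Cfsg.Agent.H894.ThLine.Tab

/-!
Points of the line representative 5, checks (helper894)
-/

set_option autoImplicit false
set_option maxRecDepth 100000
set_option maxHeartbeats 4000000
set_option Elab.async false

namespace Cfsg.Agent.H894.ThLine

open Cfsg.Agent.Th Cfsg.Agent.Th.Words248 Cfsg.Agent.Th.Gen248 Cfsg.Agent.Th.Hom248

theorem ckLP5_0 : lpc 5 0 = true := by decide +kernel

theorem ckLP5_1 : lpc 5 1 = true := by decide +kernel

theorem ckLP5_2 : lpc 5 2 = true := by decide +kernel

theorem ckLP5_3 : lpc 5 3 = true := by decide +kernel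

theorem ckLP5_4 : lpc 5 4 = true := by decide +kernel

theorem ckLP5_5 : lpc 5 5 = true := by decide +kernel

theorem ckLP5_6 : lpc 5 6 = true := by decide +kernel

theorem ckLP5_7 : lpc 5 7 = true := by decide +kernel

theorem ckLP5_8 : lpc 5 8 = true := by decide +kernel

theorem ckLP5_9 : lpc 5 9 = true := by decide +kernel

theorem ckLP5_10 : lpc 5 10 = true := by decide +kernel

theorem ckLP5_11 : lpc 5 11 = true := by decide +kernel

theorem ckLP5_12 : lpc 5 12 = true := by decide +kernel

theorem ckLP5_13 : lpc 5 13 = true := by decide +kernel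

theorem ckLP5_14 : lpc 5 14 = true := by decide +kernel

theorem ckLP5_15 : lpc 5 15 = true := by decide +kernel

theorem ckLP5_16 : lpc 5 16 = true := by decide +kernel

theorem ckLP5_17 : lpc 5 17 = true := by decide +kernel

theorem ckLP5_18 : lpc 5 18 = true := by decide +kernel

theorem ckLP5_19 : lpc 5 19 = true := by decide +kernel

theorem ckLP5_20 : lpc 5 20 = true := by decide +kernel

theorem ckLP5_21 : lpc 5 21 = true := by decide +kernel

theorem ckLP5_22 : lpc 5 22 = true := by decide +kernel

theorem ckLP5_23 : lpc 5 23 = true := by decide +kernel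

theorem ckLP5_24 : lpc 5 24 = true := by decide +kernel

theorem ckLP5_25 : lpc 5 25 = true := by decide +kernel

theorem ckLP5_26 : lpc 5 26 = true := by decide +kernel

theorem ckLP5_27 : lpc 5 27 = true := by decide +kernel

theorem ckLP5_28 : lpc 5 28 = true := by decide +kernel

theorem ckLP5_29 : lpc 5 29 = true := by decide +kernel

theorem ckLP5_30 : lpc 5 30 = true := by decide +kernel

theorem ckLP5 : ∀ k, 0 ≤ k → k < 31 → lpc 5 k = true := by
  intro k h1 h2
  interval_cases k
  · exact ckLP5_0
  · exact ckLP5_1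
  · exact ckLP5_2
  · exact ckLP5_3
  · exact ckLP5_4
  · exact ckLP5_5
  · exact ckLP5_6
  · exact ckLP5_7
  · exact ckLP5_8
  · exact ckLP5_9
  · exact ckLP5_10
  · exact ckLP5_11
  · exact ckLP5_12
  · exact ckLP5_13
  · exact ckLP5_14
  · exact ckLP5_15
  · exact ckLP5_16
  · exact ckLP5_17
  · exact ckLP5_18
  · exact ckLP5_19
  · exact ckLP5_20
  · exact ckLP5_21
  · exact ckLP5_22
  · exact ckLP5_23
  · exact ckLP5_24
  · exact ckLP5_25
  · exact ckLP5_26
  · exact ckLP5_27
  · exact ckLP5_28
  · exact ckLP5_29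
  · exact ckLP5_30


end Cfsg.Agent.H894.ThLine
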