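import Cfsg.Agent.H894.ThLine.Tab

/-!
Points of the line representative 6, checks (helper894)
-/

set_option autoImplicit false
set_option maxRecDepth 100000
set_option maxHeartbeats 4000000
set_option Elab.async false

namespace Cfsg.Agent.H894.ThLine

open Cfsg.Agent.Th Cfsg.Agent.Th.Words248 Cfsg.Agent.Th.Gen248 Cfsg.Agent.Th.Hom248

theorem ckLP6_0 : lpc 6 0 = true := by decide +kernel

theorem ckLP6_1 : lpc 6 1 = true := by decide +kernel

theorem ckLP6_2 : lpc 6 2 = true := by decide +kernel

theorem ckLP6_3 : lpc 6 3 = true := by decide +kernel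

theorem ckLP6_4 : lpc 6 4 = true := by decide +kernel

theorem ckLP6_5 : lpc 6 5 = true := by decide +kernel

theorem ckLP6_6 : lpc 6 6 = true := by decide +kernel

theorem ckLP6_7 : lpc 6 7 = true := by decide +kernel

theorem ckLP6_8 : lpc 6 8 = true := by decide +kernel

theorem ckLP6_9 : lpc 6 9 = true := by decide +kernel

theorem ckLP6_10 : lpc 6 10 = true := by decide +kernel

theorem ckLP6_11 : lpc 6 11 = true := by decide +kernel

theorem ckLP6_12 : lpc 6 12 = true := by decide +kernel

theorem ckLP6_13 : lpc 6 13 = true := by decide +kernel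

theorem ckLP6_14 : lpc 6 14 = true := by decide +kernel

theorem ckLP6_15 : lpc 6 15 = true := by decide +kernel

theorem ckLP6_16 : lpc 6 16 = true := by decide +kernel

theorem ckLP6_17 : lpc 6 17 = true := by decide +kernel

theorem ckLP6_18 : lpc 6 18 = true := by decide +kernel

theorem ckLP6_19 : lpc 6 19 = true := by decide +kernel

theorem ckLP6_20 : lpc 6 20 = true := by decide +kernel

theorem ckLP6_21 : lpc 6 21 = true := by decide +kernel

theorem ckLP6_22 : lpc 6 22 = true := by decide +kernel

theorem ckLP6_23 : lpc 6 23 = true := by decide +kernel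

theorem ckLP6_24 : lpc 6 24 = true := by decide +kernel

theorem ckLP6_25 : lpc 6 25 = true := by decide +kernel

theorem ckLP6_26 : lpc 6 26 = true := by decide +kernel

theorem ckLP6_27 : lpc 6 27 = true := by decide +kernel

theorem ckLP6_28 : lpc 6 28 = true := by decide +kernel

theorem ckLP6_29 : lpc 6 29 = true := by decide +kernel

theorem ckLP6_30 : lpc 6 30 = true := by decide +kernel

theorem ckLP6 : ∀ k, 0 ≤ k → k < 31 → lpc 6 k = true := by
  intro k h1 h2
  interval_cases k
  · exact ckLP6_0
  · exact ckLP6_1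
  · exact ckLP6_2
  · exact ckLP6_3
  · exact ckLP6_4
  · exact ckLP6_5
  · exact ckLP6_6
  · exact ckLP6_7
  · exact ckLP6_8
  · exact ckLP6_9
  · exact ckLP6_10
  · exact ckLP6_11
  · exact ckLP6_12
  · exact ckLP6_13
  · exact ckLP6_14
  · exact ckLP6_15
  · exact ckLP6_16
  · exact ckLP6_17
  · exact ckLP6_18
  · exact ckLP6_19
  · exact ckLP6_20
  · exact ckLP6_21
  · exact ckLP6_22
  · exact ckLP6_23
  · exact ckLP6_24
  · exact ckLP6_25
  · exact ckLP6_26
  · exact ckLP6_27
  · exact ckLP6_28
  · exact ckLP6_29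
  · exact ckLP6_30


end Cfsg.Agent.H894.ThLine
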