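import Cfsg.Agent.H894.ThLine.Tab

/-!
Points of the line representative 7, checks (helper894)
-/

set_option autoImplicit false
set_option maxRecDepth 100000
set_option maxHeartbeats 4000000
set_option Elab.async false

namespace Cfsg.Agent.H894.ThLine

open Cfsg.Agent.Th Cfsg.Agent.Th.Words248 Cfsg.Agent.Th.Gen248 Cfsg.Agent.Th.Hom248

theorem ckLP7_0 : lpc 7 0 = true := by decide +kernel

theorem ckLP7_1 : lpc 7 1 = true := by decide +kernel

theorem ckLP7_2 : lpc 7 2 = true := by decide +kernel

theorem ckLP7_3 : lpc 7 3 = true := by decide +kernel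

theorem ckLP7_4 : lpc 7 4 = true := by decide +kernel

theorem ckLP7_5 : lpc 7 5 = true := by decide +kernel

theorem ckLP7_6 : lpc 7 6 = true := by decide +kernel

theorem ckLP7_7 : lpc 7 7 = true := by decide +kernel

theorem ckLP7_8 : lpc 7 8 = true := by decide +kernel

theorem ckLP7_9 : lpc 7 9 = true := by decide +kernel

theorem ckLP7_10 : lpc 7 10 = true := by decide +kernel

theorem ckLP7_11 : lpc 7 11 = true := by decide +kernel

theorem ckLP7_12 : lpc 7 12 = true := by decide +kernel

theorem ckLP7_13 : lpc 7 13 = true := by decide +kernel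

theorem ckLP7_14 : lpc 7 14 = true := by decide +kernel

theorem ckLP7_15 : lpc 7 15 = true := by decide +kernel

theorem ckLP7_16 : lpc 7 16 = true := by decide +kernel

theorem ckLP7_17 : lpc 7 17 = true := by decide +kernel

theorem ckLP7_18 : lpc 7 18 = true := by decide +kernel

theorem ckLP7_19 : lpc 7 19 = true := by decide +kernel

theorem ckLP7_20 : lpc 7 20 = true := by decide +kernel

theorem ckLP7_21 : lpc 7 21 = true := by decide +kernel

theorem ckLP7_22 : lpc 7 22 = true := by decide +kernel

theorem ckLP7_23 : lpc 7 23 = true := by decide +kernel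

theorem ckLP7_24 : lpc 7 24 = true := by decide +kernel

theorem ckLP7_25 : lpc 7 25 = true := by decide +kernel

theorem ckLP7_26 : lpc 7 26 = true := by decide +kernel

theorem ckLP7_27 : lpc 7 27 = true := by decide +kernel

theorem ckLP7_28 : lpc 7 28 = true := by decide +kernel

theorem ckLP7_29 : lpc 7 29 = true := by decide +kernel

theorem ckLP7_30 : lpc 7 30 = true := by decide +kernel

theorem ckLP7 : ∀ k, 0 ≤ k → k < 31 → lpc 7 k = true := by
  intro k h1 h2
  interval_cases k
  · exact ckLP7_0
  · exact ckLP7_1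
  · exact ckLP7_2
  · exact ckLP7_3
  · exact ckLP7_4
  · exact ckLP7_5
  · exact ckLP7_6
  · exact ckLP7_7
  · exact ckLP7_8
  · exact ckLP7_9
  · exact ckLP7_10
  · exact ckLP7_11
  · exact ckLP7_12
  · exact ckLP7_13
  · exact ckLP7_14
  · exact ckLP7_15
  · exact ckLP7_16
  · exact ckLP7_17
  · exact ckLP7_18
  · exact ckLP7_19
  · exact ckLP7_20
  · exact ckLP7_21
  · exact ckLP7_22
  · exact ckLP7_23
  · exact ckLP7_24
  · exact ckLP7_25
  · exact ckLP7_26
  · exact ckLP7_27
  · exact ckLP7_28
  · exact ckLP7_29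
  · exact ckLP7_30


end Cfsg.Agent.H894.ThLine
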