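import Cfsg.Agent.H894.ThLine.Tab

/-!
Points of the line representative 8, checks (helper894)
-/

set_option autoImplicit false
set_option maxRecDepth 100000
set_option maxHeartbeats 4000000
set_option Elab.async false

namespace Cfsg.Agent.H894.ThLine

open Cfsg.Agent.Th Cfsg.Agent.Th.Words248 Cfsg.Agent.Th.Gen248 Cfsg.Agent.Th.Hom248

theorem ckLP8_0 : lpc 8 0 = true := by decide +kernel

theorem ckLP8_1 : lpc 8 1 = true := by decide +kernel

theorem ckLP8_2 : lpc 8 2 = true := by decide +kernel

theorem ckLP8_3 : lpc 8 3 = true := by decide +kernel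

theorem ckLP8_4 : lpc 8 4 = true := by decide +kernel

theorem ckLP8_5 : lpc 8 5 = true := by decide +kernel

theorem ckLP8_6 : lpc 8 6 = true := by decide +kernel

theorem ckLP8_7 : lpc 8 7 = true := by decide +kernel

theorem ckLP8_8 : lpc 8 8 = true := by decide +kernel

theorem ckLP8_9 : lpc 8 9 = true := by decide +kernel

theorem ckLP8_10 : lpc 8 10 = true := by decide +kernel

theorem ckLP8_11 : lpc 8 11 = true := by decide +kernel

theorem ckLP8_12 : lpc 8 12 = true := by decide +kernel

theorem ckLP8_13 : lpc 8 13 = true := by decide +kernel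

theorem ckLP8_14 : lpc 8 14 = true := by decide +kernel

theorem ckLP8_15 : lpc 8 15 = true := by decide +kernel

theorem ckLP8_16 : lpc 8 16 = true := by decide +kernel

theorem ckLP8_17 : lpc 8 17 = true := by decide +kernel

theorem ckLP8_18 : lpc 8 18 = true := by decide +kernel

theorem ckLP8_19 : lpc 8 19 = true := by decide +kernel

theorem ckLP8_20 : lpc 8 20 = true := by decide +kernel

theorem ckLP8_21 : lpc 8 21 = true := by decide +kernel

theorem ckLP8_22 : lpc 8 22 = true := by decide +kernel

theorem ckLP8_23 : lpc 8 23 = true := by decide +kernel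

theorem ckLP8_24 : lpc 8 24 = true := by decide +kernel

theorem ckLP8_25 : lpc 8 25 = true := by decide +kernel

theorem ckLP8_26 : lpc 8 26 = true := by decide +kernel

theorem ckLP8_27 : lpc 8 27 = true := by decide +kernel

theorem ckLP8_28 : lpc 8 28 = true := by decide +kernel

theorem ckLP8_29 : lpc 8 29 = true := by decide +kernel

theorem ckLP8_30 : lpc 8 30 = true := by decide +kernel

theorem ckLP8 : ∀ k, 0 ≤ k → k < 31 → lpc 8 k = true := by
  intro k h1 h2
  interval_cases k
  · exact ckLP8_0
  · exact ckLP8_1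
  · exact ckLP8_2
  · exact ckLP8_3
  · exact ckLP8_4
  · exact ckLP8_5
  · exact ckLP8_6
  · exact ckLP8_7
  · exact ckLP8_8
  · exact ckLP8_9
  · exact ckLP8_10
  · exact ckLP8_11
  · exact ckLP8_12
  · exact ckLP8_13
  · exact ckLP8_14
  · exact ckLP8_15
  · exact ckLP8_16
  · exact ckLP8_17
  · exact ckLP8_18
  · exact ckLP8_19
  · exact ckLP8_20
  · exact ckLP8_21
  · exact ckLP8_22
  · exact ckLP8_23
  · exact ckLP8_24
  · exact ckLP8_25
  · exact ckLP8_26
  · exact ckLP8_27
  · exact ckLP8_28
  · exact ckLP8_29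
  · exact ckLP8_30


end Cfsg.Agent.H894.ThLine
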