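import Cfsg.Agent.H894.ThLine.Tab

/-!
Points of the line representative 9, checks (helper894)
-/

set_option autoImplicit false
set_option maxRecDepth 100000
set_option maxHeartbeats 4000000
set_option Elab.async false

namespace Cfsg.Agent.H894.ThLine

open Cfsg.Agent.Th Cfsg.Agent.Th.Words248 Cfsg.Agent.Th.Gen248 Cfsg.Agent.Th.Hom248

theorem ckLP9_0 : lpc 9 0 = true := by decide +kernel

theorem ckLP9_1 : lpc 9 1 = true := by decide +kernel

theorem ckLP9_2 : lpc 9 2 = true := by decide +kernel

theorem ckLP9_3 : lpc 9 3 = true := by decide +kernel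

theorem ckLP9_4 : lpc 9 4 = true := by decide +kernel

theorem ckLP9_5 : lpc 9 5 = true := by decide +kernel

theorem ckLP9_6 : lpc 9 6 = true := by decide +kernel

theorem ckLP9_7 : lpc 9 7 = true := by decide +kernel

theorem ckLP9_8 : lpc 9 8 = true := by decide +kernel

theorem ckLP9_9 : lpc 9 9 = true := by decide +kernel

theorem ckLP9_10 : lpc 9 10 = true := by decide +kernel

theorem ckLP9_11 : lpc 9 11 = true := by decide +kernel

theorem ckLP9_12 : lpc 9 12 = true := by decide +kernel

theorem ckLP9_13 : lpc 9 13 = true := by decide +kernel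

theorem ckLP9_14 : lpc 9 14 = true := by decide +kernel

theorem ckLP9_15 : lpc 9 15 = true := by decide +kernel

theorem ckLP9_16 : lpc 9 16 = true := by decide +kernel

theorem ckLP9_17 : lpc 9 17 = true := by decide +kernel

theorem ckLP9_18 : lpc 9 18 = true := by decide +kernel

theorem ckLP9_19 : lpc 9 19 = true := by decide +kernel

theorem ckLP9_20 : lpc 9 20 = true := by decide +kernel

theorem ckLP9_21 : lpc 9 21 = true := by decide +kernel

theorem ckLP9_22 : lpc 9 22 = true := by decide +kernel

theorem ckLP9_23 : lpc 9 23 = true := by decide +kernel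

theorem ckLP9_24 : lpc 9 24 = true := by decide +kernel

theorem ckLP9_25 : lpc 9 25 = true := by decide +kernel

theorem ckLP9_26 : lpc 9 26 = true := by decide +kernel

theorem ckLP9_27 : lpc 9 27 = true := by decide +kernel

theorem ckLP9_28 : lpc 9 28 = true := by decide +kernel

theorem ckLP9_29 : lpc 9 29 = true := by decide +kernel

theorem ckLP9_30 : lpc 9 30 = true := by decide +kernel

theorem ckLP9 : ∀ k, 0 ≤ k → k < 31 → lpc 9 k = true := by
  intro k h1 h2
  interval_cases k
  · exact ckLP9_0
  · exact ckLP9_1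
  · exact ckLP9_2
  · exact ckLP9_3
  · exact ckLP9_4
  · exact ckLP9_5
  · exact ckLP9_6
  · exact ckLP9_7
  · exact ckLP9_8
  · exact ckLP9_9
  · exact ckLP9_10
  · exact ckLP9_11
  · exact ckLP9_12
  · exact ckLP9_13
  · exact ckLP9_14
  · exact ckLP9_15
  · exact ckLP9_16
  · exact ckLP9_17
  · exact ckLP9_18
  · exact ckLP9_19
  · exact ckLP9_20
  · exact ckLP9_21
  · exact ckLP9_22
  · exact ckLP9_23
  · exact ckLP9_24
  · exact ckLP9_25
  · exact ckLP9_26
  · exact ckLP9_27
  · exact ckLP9_28
  · exact ckLP9_29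
  · exact ckLP9_30


end Cfsg.Agent.H894.ThLine
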