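import Cfsg.Agent.H894.ThLine.Tab

/-!
Elements outside of the line stabiliser, checks (helper894)
-/

set_option autoImplicit false
set_option maxRecDepth 100000
set_option maxHeartbeats 4000000
set_option Elab.async false

namespace Cfsg.Agent.H894.ThLine

open Cfsg.Agent.Th Cfsg.Agent.Th.Words248 Cfsg.Agent.Th.Gen248 Cfsg.Agent.Th.Hom248

theorem ckNT : ∀ l < 8, chkN (TM (l + 1)) (TM (8 - l)) (EM (ntL.getD (l + 1) (0, 0)).1) (EM (ntL.getD (l + 1) (0, 0)).2) = true := by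
  decide +kernel

theorem ckNG_1 : chkN (GM 1) (GiM 1) (EM (ngL.getD 1 (0, 0)).1) (EM (ngL.getD 1 (0, 0)).2) = true := by decide +kernel

theorem ckNG_2 : chkN (GM 2) (GiM 2) (EM (ngL.getD 2 (0, 0)).1) (EM (ngL.getD 2 (0, 0)).2) = true := by decide +kernel

theorem ckNG_3 : chkN (GM 3) (GiM 3) (EM (ngL.getD 3 (0, 0)).1) (EM (ngL.getD 3 (0, 0)).2) = true := by decide +kernel

theorem ckNG_4 : chkN (GM 4) (GiM 4) (EM (ngL.getD 4 (0, 0)).1) (EM (ngL.getD 4 (0, 0)).2) = true := by decide +kernel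

theorem ckNG_5 : chkN (GM 5) (GiM 5) (EM (ngL.getD 5 (0, 0)).1) (EM (ngL.getD 5 (0, 0)).2) = true := by decide +kernel

theorem ckNG_6 : chkN (GM 6) (GiM 6) (EM (ngL.getD 6 (0, 0)).1) (EM (ngL.getD 6 (0, 0)).2) = true := by decide +kernel

theorem ckNG_7 : chkN (GM 7) (GiM 7) (EM (ngL.getD 7 (0, 0)).1) (EM (ngL.getD 7 (0, 0)).2) = true := by decide +kernel

theorem ckNG_8 : chkN (GM 8) (GiM 8) (EM (ngL.getD 8 (0, 0)).1) (EM (ngL.getD 8 (0, 0)).2) = true := by decide +kernel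

theorem ckNG_9 : chkN (GM 9) (GiM 9) (EM (ngL.getD 9 (0, 0)).1) (EM (ngL.getD 9 (0, 0)).2) = true := by decide +kernel

theorem ckNG_10 : chkN (GM 10) (GiM 10) (EM (ngL.getD 10 (0, 0)).1) (EM (ngL.getD 10 (0, 0)).2) = true := by decide +kernel

theorem ckNG : ∀ i, 1 ≤ i → i < 11 → chkN (GM i) (GiM i) (EM (ngL.getD i (0, 0)).1) (EM (ngL.getD i (0, 0)).2) = true := by
  intro i h1 h2
  interval_cases i
  · exact ckNG_1
  · exact ckNG_2
  · exact ckNG_3
  · exact ckNG_4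
  · exact ckNG_5
  · exact ckNG_6
  · exact ckNG_7
  · exact ckNG_8
  · exact ckNG_9
  · exact ckNG_10


end Cfsg.Agent.H894.ThLine
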