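import Cfsg.Agent.H894.ThLine.Tab

/-!
Lines through the point representatives 0, 1, checks (helper894)
-/

set_option autoImplicit false
set_option maxRecDepth 100000
set_option maxHeartbeats 4000000
set_option Elab.async false

namespace Cfsg.Agent.H894.ThLine

open Cfsg.Agent.Th Cfsg.Agent.Th.Words248 Cfsg.Agent.Th.Gen248 Cfsg.Agent.Th.Hom248

theorem ckPL0_0 : plc 0 0 = true := by decide +kernel

theorem ckPL0_1 : plc 0 1 = true := by decide +kernel

theorem ckPL0_2 : plc 0 2 = true := by decide +kernel

theorem ckPL0_3 : plc 0 3 = true := by decide +kernel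

theorem ckPL0_4 : plc 0 4 = true := by decide +kernel

theorem ckPL0_5 : plc 0 5 = true := by decide +kernel

theorem ckPL0_6 : plc 0 6 = true := by decide +kernel

theorem ckPL0_7 : plc 0 7 = true := by decide +kernel

theorem ckPL0_8 : plc 0 8 = true := by decide +kernel

theorem ckPL0 : ∀ l, 0 ≤ l → l < 9 → plc 0 l = true := by
  intro l h1 h2
  interval_cases l
  · exact ckPL0_0
  · exact ckPL0_1
  · exact ckPL0_2
  · exact ckPL0_3
  · exact ckPL0_4
  · exact ckPL0_5
  · exact ckPL0_6
  · exact ckPL0_7
  · exact ckPL0_8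

theorem ckPL1_0 : plc 1 0 = true := by decide +kernel

theorem ckPL1_1 : plc 1 1 = true := by decide +kernel

theorem ckPL1_2 : plc 1 2 = true := by decide +kernel

theorem ckPL1_3 : plc 1 3 = true := by decide +kernel

theorem ckPL1_4 : plc 1 4 = true := by decide +kernel

theorem ckPL1_5 : plc 1 5 = true := by decide +kernel

theorem ckPL1_6 : plc 1 6 = true := by decide +kernel

theorem ckPL1_7 : plc 1 7 = true := by decide +kernel

theorem ckPL1_8 : plc 1 8 = true := by decide +kernel

theorem ckPL1 : ∀ l, 0 ≤ l → l < 9 → plc 1 l = true := by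
  intro l h1 h2
  interval_cases l
  · exact ckPL1_0
  · exact ckPL1_1
  · exact ckPL1_2
  · exact ckPL1_3
  · exact ckPL1_4
  · exact ckPL1_5
  · exact ckPL1_6
  · exact ckPL1_7
  · exact ckPL1_8


end Cfsg.Agent.H894.ThLine
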