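import Cfsg.Agent.H894.ThLine.Tab

/-!
Lines through the point representatives 2, 3, checks (helper894)
-/

set_option autoImplicit false
set_option maxRecDepth 100000
set_option maxHeartbeats 4000000
set_option Elab.async false

namespace Cfsg.Agent.H894.ThLine

open Cfsg.Agent.Th Cfsg.Agent.Th.Words248 Cfsg.Agent.Th.Gen248 Cfsg.Agent.Th.Hom248

theorem ckPL2_0 : plc 2 0 = true := by decide +kernel

theorem ckPL2_1 : plc 2 1 = true := by decide +kernel

theorem ckPL2_2 : plc 2 2 = true := by decide +kernel

theorem ckPL2_3 : plc 2 3 = true := by decide +kernel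

theorem ckPL2_4 : plc 2 4 = true := by decide +kernel

theorem ckPL2_5 : plc 2 5 = true := by decide +kernel

theorem ckPL2_6 : plc 2 6 = true := by decide +kernel

theorem ckPL2_7 : plc 2 7 = true := by decide +kernel

theorem ckPL2_8 : plc 2 8 = true := by decide +kernel

theorem ckPL2 : ∀ l, 0 ≤ l → l < 9 → plc 2 l = true := by
  intro l h1 h2
  interval_cases l
  · exact ckPL2_0
  · exact ckPL2_1
  · exact ckPL2_2
  · exact ckPL2_3
  · exact ckPL2_4
  · exact ckPL2_5
  · exact ckPL2_6
  · exact ckPL2_7
  · exact ckPL2_8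

theorem ckPL3_0 : plc 3 0 = true := by decide +kernel

theorem ckPL3_1 : plc 3 1 = true := by decide +kernel

theorem ckPL3_2 : plc 3 2 = true := by decide +kernel

theorem ckPL3_3 : plc 3 3 = true := by decide +kernel

theorem ckPL3_4 : plc 3 4 = true := by decide +kernel

theorem ckPL3_5 : plc 3 5 = true := by decide +kernel

theorem ckPL3_6 : plc 3 6 = true := by decide +kernel

theorem ckPL3_7 : plc 3 7 = true := by decide +kernel

theorem ckPL3_8 : plc 3 8 = true := by decide +kernel

theorem ckPL3 : ∀ l, 0 ≤ l → l < 9 → plc 3 l = true := by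
  intro l h1 h2
  interval_cases l
  · exact ckPL3_0
  · exact ckPL3_1
  · exact ckPL3_2
  · exact ckPL3_3
  · exact ckPL3_4
  · exact ckPL3_5
  · exact ckPL3_6
  · exact ckPL3_7
  · exact ckPL3_8


end Cfsg.Agent.H894.ThLine
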