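import Cfsg.Agent.H894.ThLine.Tab

/-!
Lines through the point representatives 4, 5, checks (helper894)
-/

set_option autoImplicit false
set_option maxRecDepth 100000
set_option maxHeartbeats 4000000
set_option Elab.async false

namespace Cfsg.Agent.H894.ThLine

open Cfsg.Agent.Th Cfsg.Agent.Th.Words248 Cfsg.Agent.Th.Gen248 Cfsg.Agent.Th.Hom248

theorem ckPL4_0 : plc 4 0 = true := by decide +kernel

theorem ckPL4_1 : plc 4 1 = true := by decide +kernel

theorem ckPL4_2 : plc 4 2 = true := by decide +kernel

theorem ckPL4_3 : plc 4 3 = true := by decide +kernel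

theorem ckPL4_4 : plc 4 4 = true := by decide +kernel

theorem ckPL4_5 : plc 4 5 = true := by decide +kernel

theorem ckPL4_6 : plc 4 6 = true := by decide +kernel

theorem ckPL4_7 : plc 4 7 = true := by decide +kernel

theorem ckPL4_8 : plc 4 8 = true := by decide +kernel

theorem ckPL4 : ∀ l, 0 ≤ l → l < 9 → plc 4 l = true := by
  intro l h1 h2
  interval_cases l
  · exact ckPL4_0
  · exact ckPL4_1
  · exact ckPL4_2
  · exact ckPL4_3
  · exact ckPL4_4
  · exact ckPL4_5
  · exact ckPL4_6
  · exact ckPL4_7
  · exact ckPL4_8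

theorem ckPL5_0 : plc 5 0 = true := by decide +kernel

theorem ckPL5_1 : plc 5 1 = true := by decide +kernel

theorem ckPL5_2 : plc 5 2 = true := by decide +kernel

theorem ckPL5_3 : plc 5 3 = true := by decide +kernel

theorem ckPL5_4 : plc 5 4 = true := by decide +kernel

theorem ckPL5_5 : plc 5 5 = true := by decide +kernel

theorem ckPL5_6 : plc 5 6 = true := by decide +kernel

theorem ckPL5_7 : plc 5 7 = true := by decide +kernel

theorem ckPL5_8 : plc 5 8 = true := by decide +kernel

theorem ckPL5 : ∀ l, 0 ≤ l → l < 9 → plc 5 l = true := by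
  intro l h1 h2
  interval_cases l
  · exact ckPL5_0
  · exact ckPL5_1
  · exact ckPL5_2
  · exact ckPL5_3
  · exact ckPL5_4
  · exact ckPL5_5
  · exact ckPL5_6
  · exact ckPL5_7
  · exact ckPL5_8


end Cfsg.Agent.H894.ThLine
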