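import Cfsg.Agent.H894.ThLine.Tab

/-!
Lines through the point representatives 6, 7, checks (helper894)
-/

set_option autoImplicit false
set_option maxRecDepth 100000
set_option maxHeartbeats 4000000
set_option Elab.async false

namespace Cfsg.Agent.H894.ThLine

open Cfsg.Agent.Th Cfsg.Agent.Th.Words248 Cfsg.Agent.Th.Gen248 Cfsg.Agent.Th.Hom248

theorem ckPL6_0 : plc 6 0 = true := by decide +kernel

theorem ckPL6_1 : plc 6 1 = true := by decide +kernel

theorem ckPL6_2 : plc 6 2 = true := by decide +kernel

theorem ckPL6_3 : plc 6 3 = true := by decide +kernel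

theorem ckPL6_4 : plc 6 4 = true := by decide +kernel

theorem ckPL6_5 : plc 6 5 = true := by decide +kernel

theorem ckPL6_6 : plc 6 6 = true := by decide +kernel

theorem ckPL6_7 : plc 6 7 = true := by decide +kernel

theorem ckPL6_8 : plc 6 8 = true := by decide +kernel

theorem ckPL6 : ∀ l, 0 ≤ l → l < 9 → plc 6 l = true := by
  intro l h1 h2
  interval_cases l
  · exact ckPL6_0
  · exact ckPL6_1
  · exact ckPL6_2
  · exact ckPL6_3
  · exact ckPL6_4
  · exact ckPL6_5
  · exact ckPL6_6
  · exact ckPL6_7
  · exact ckPL6_8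

theorem ckPL7_0 : plc 7 0 = true := by decide +kernel

theorem ckPL7_1 : plc 7 1 = true := by decide +kernel

theorem ckPL7_2 : plc 7 2 = true := by decide +kernel

theorem ckPL7_3 : plc 7 3 = true := by decide +kernel

theorem ckPL7_4 : plc 7 4 = true := by decide +kernel

theorem ckPL7_5 : plc 7 5 = true := by decide +kernel

theorem ckPL7_6 : plc 7 6 = true := by decide +kernel

theorem ckPL7_7 : plc 7 7 = true := by decide +kernel

theorem ckPL7_8 : plc 7 8 = true := by decide +kernel

theorem ckPL7 : ∀ l, 0 ≤ l → l < 9 → plc 7 l = true := by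
  intro l h1 h2
  interval_cases l
  · exact ckPL7_0
  · exact ckPL7_1
  · exact ckPL7_2
  · exact ckPL7_3
  · exact ckPL7_4
  · exact ckPL7_5
  · exact ckPL7_6
  · exact ckPL7_7
  · exact ckPL7_8


end Cfsg.Agent.H894.ThLine
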