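import Cfsg.Agent.H894.ThLine.Tab

/-!
Lines through the point representatives 8, 9, checks (helper894)
-/

set_option autoImplicit false
set_option maxRecDepth 100000
set_option maxHeartbeats 4000000
set_option Elab.async false

namespace Cfsg.Agent.H894.ThLine

open Cfsg.Agent.Th Cfsg.Agent.Th.Words248 Cfsg.Agent.Th.Gen248 Cfsg.Agent.Th.Hom248

theorem ckPL8_0 : plc 8 0 = true := by decide +kernel

theorem ckPL8_1 : plc 8 1 = true := by decide +kernel

theorem ckPL8_2 : plc 8 2 = true := by decide +kernel

theorem ckPL8_3 : plc 8 3 = true := by decide +kernel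

theorem ckPL8_4 : plc 8 4 = true := by decide +kernel

theorem ckPL8_5 : plc 8 5 = true := by decide +kernel

theorem ckPL8_6 : plc 8 6 = true := by decide +kernel

theorem ckPL8_7 : plc 8 7 = true := by decide +kernel

theorem ckPL8_8 : plc 8 8 = true := by decide +kernel

theorem ckPL8 : ∀ l, 0 ≤ l → l < 9 → plc 8 l = true := by
  intro l h1 h2
  interval_cases l
  · exact ckPL8_0
  · exact ckPL8_1
  · exact ckPL8_2
  · exact ckPL8_3
  · exact ckPL8_4
  · exact ckPL8_5
  · exact ckPL8_6
  · exact ckPL8_7
  · exact ckPL8_8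

theorem ckPL9_0 : plc 9 0 = true := by decide +kernel

theorem ckPL9_1 : plc 9 1 = true := by decide +kernel

theorem ckPL9_2 : plc 9 2 = true := by decide +kernel

theorem ckPL9_3 : plc 9 3 = true := by decide +kernel

theorem ckPL9_4 : plc 9 4 = true := by decide +kernel

theorem ckPL9_5 : plc 9 5 = true := by decide +kernel

theorem ckPL9_6 : plc 9 6 = true := by decide +kernel

theorem ckPL9_7 : plc 9 7 = true := by decide +kernel

theorem ckPL9_8 : plc 9 8 = true := by decide +kernel

theorem ckPL9 : ∀ l, 0 ≤ l → l < 9 → plc 9 l = true := by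
  intro l h1 h2
  interval_cases l
  · exact ckPL9_0
  · exact ckPL9_1
  · exact ckPL9_2
  · exact ckPL9_3
  · exact ckPL9_4
  · exact ckPL9_5
  · exact ckPL9_6
  · exact ckPL9_7
  · exact ckPL9_8


end Cfsg.Agent.H894.ThLine
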