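import Cfsg.Agent.H894.ThLine.Tab

/-!
Lines through the point representatives 10, 11, checks (helper894)
-/

set_option autoImplicit false
set_option maxRecDepth 100000
set_option maxHeartbeats 4000000
set_option Elab.async false

namespace Cfsg.Agent.H894.ThLine

open Cfsg.Agent.Th Cfsg.Agent.Th.Words248 Cfsg.Agent.Th.Gen248 Cfsg.Agent.Th.Hom248

theorem ckPL10_0 : plc 10 0 = true := by decide +kernel

theorem ckPL10_1 : plc 10 1 = true := by decide +kernel

theorem ckPL10_2 : plc 10 2 = true := by decide +kernel

theorem ckPL10_3 : plc 10 3 = true := by decide +kernel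

theorem ckPL10_4 : plc 10 4 = true := by decide +kernel

theorem ckPL10_5 : plc 10 5 = true := by decide +kernel

theorem ckPL10_6 : plc 10 6 = true := by decide +kernel

theorem ckPL10_7 : plc 10 7 = true := by decide +kernel

theorem ckPL10_8 : plc 10 8 = true := by decide +kernel

theorem ckPL10 : ∀ l, 0 ≤ l → l < 9 → plc 10 l = true := by
  intro l h1 h2
  interval_cases l
  · exact ckPL10_0
  · exact ckPL10_1
  · exact ckPL10_2
  · exact ckPL10_3
  · exact ckPL10_4
  · exact ckPL10_5
  · exact ckPL10_6
  · exact ckPL10_7
  · exact ckPL10_8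

theorem ckPL11_0 : plc 11 0 = true := by decide +kernel

theorem ckPL11_1 : plc 11 1 = true := by decide +kernel

theorem ckPL11_2 : plc 11 2 = true := by decide +kernel

theorem ckPL11_3 : plc 11 3 = true := by decide +kernel

theorem ckPL11_4 : plc 11 4 = true := by decide +kernel

theorem ckPL11_5 : plc 11 5 = true := by decide +kernel

theorem ckPL11_6 : plc 11 6 = true := by decide +kernel

theorem ckPL11_7 : plc 11 7 = true := by decide +kernel

theorem ckPL11_8 : plc 11 8 = true := by decide +kernel

theorem ckPL11 : ∀ l, 0 ≤ l → l < 9 → plc 11 l = true := by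
  intro l h1 h2
  interval_cases l
  · exact ckPL11_0
  · exact ckPL11_1
  · exact ckPL11_2
  · exact ckPL11_3
  · exact ckPL11_4
  · exact ckPL11_5
  · exact ckPL11_6
  · exact ckPL11_7
  · exact ckPL11_8


end Cfsg.Agent.H894.ThLine
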