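import Cfsg.Agent.H894.ThLine.Tab

/-!
Powers, checks (helper894)
-/

set_option autoImplicit false
set_option maxRecDepth 100000
set_option maxHeartbeats 4000000
set_option Elab.async false

namespace Cfsg.Agent.H894.ThLine

open Cfsg.Agent.Th Cfsg.Agent.Th.Words248 Cfsg.Agent.Th.Gen248 Cfsg.Agent.Th.Hom248

theorem ckS0 : Nat.beq idm (SM 0) = true := by decide +kernel

theorem ckS1 : Nat.beq (evl idm [.s, .s, .d, .u, .d, .b, .c, .a, .b]) (SM 1) = true := by decide +kernel

theorem ckS : ∀ k < 30, Nat.beq (mul (SM k) (SM 1)) (SM (k + 1)) = true := by decide +kernel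

theorem ckS31 : Nat.beq (mul (SM 30) (SM 1)) idm = true := by decide +kernel

theorem ckT0 : Nat.beq idm (TM 0) = true := by decide +kernel

theorem ckT1 : Nat.beq (evl idm [.d, .e, .s]) (TM 1) = true := by decide +kernel

theorem ckT : ∀ k < 8, Nat.beq (mul (TM k) (TM 1)) (TM (k + 1)) = true := by decide +kernel

theorem ckT9 : Nat.beq (mul (TM 8) (TM 1)) idm = true := by decide +kernel

theorem ckTC : chkC (TM 1) = true := by decide +kernel

end Cfsg.Agent.H894.ThLine
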