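import Cfsg.Agent.H894.ThLine.Tab

/-!
Lines through the base point, checks s (helper894)
-/

set_option autoImplicit false
set_option maxRecDepth 100000
set_option maxHeartbeats 4000000
set_option Elab.async false

namespace Cfsg.Agent.H894.ThLine

open Cfsg.Agent.Th Cfsg.Agent.Th.Words248 Cfsg.Agent.Th.Gen248 Cfsg.Agent.Th.Hom248

theorem ckXs_0 : cxc .s cxsL cxsE 0 = true := by decide +kernel

theorem ckXs_1 : cxc .s cxsL cxsE 1 = true := by decide +kernel

theorem ckXs_2 : cxc .s cxsL cxsE 2 = true := by decide +kernel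

theorem ckXs_3 : cxc .s cxsL cxsE 3 = true := by decide +kernel

theorem ckXs_4 : cxc .s cxsL cxsE 4 = true := by decide +kernel

theorem ckXs_5 : cxc .s cxsL cxsE 5 = true := by decide +kernel

theorem ckXs_6 : cxc .s cxsL cxsE 6 = true := by decide +kernel

theorem ckXs_7 : cxc .s cxsL cxsE 7 = true := by decide +kernel

theorem ckXs_8 : cxc .s cxsL cxsE 8 = true := by decide +kernel

theorem ckXs : ∀ l, 0 ≤ l → l < 9 → cxc .s cxsL cxsE l = true := by
  intro l h1 h2
  interval_cases l
  · exact ckXs_0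
  · exact ckXs_1
  · exact ckXs_2
  · exact ckXs_3
  · exact ckXs_4
  · exact ckXs_5
  · exact ckXs_6
  · exact ckXs_7
  · exact ckXs_8


end Cfsg.Agent.H894.ThLine
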