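import Cfsg.Agent.H894.ThLine.CkS
import Cfsg.Agent.H894.ThLine.CkE
import Cfsg.Agent.Th.CentTh

/-!
# A line of the Thompson geometry (helper894)

`sg` of order 31, `ta` of order 9, the involutions `eG k = sg^k a sg^-k`, the group `E0` of order 32, its normalizer `DD`
and the centralizer `CC` of `a`.
-/

set_option autoImplicit false

namespace Cfsg.Agent.H894.ThLine

open Cfsg.Agent.Th Cfsg.Agent.Th.Words248 Cfsg.Agent.Th.Gen248 Cfsg.Agent.Th.Hom248

instance finite_TG : Finite TG := Cfsg.Agent.Th.Final.finite_Th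

/-- element of order 31 -/
noncomputable def sg : TG := wv [.s, .s, .d, .u, .d, .b, .c, .a, .b]

/-- element of order 9 -/
noncomputable def ta : TG := wv [.d, .e, .s]

theorem rep_sg1 : Rep (SM 1) sg := (rep_word _).congr ckS1

theorem rep_S : ∀ k, k < 31 → Rep (SM k) (sg ^ k) := by
  intro k
  induction k with
  | zero => intro _; rw [pow_zero]; exact Rep.one.congr ckS0
  | succ k ih => intro hk; rw [pow_succ]; exact ((ih (by omega)).mul rep_sg1).congr (ckS k (by omega))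

theorem sg31 : sg ^ 31 = 1 := by
  rw [pow_succ]
  exact ((rep_S 30 (by norm_num)).mul rep_sg1).eq Rep.one ckS31

theorem rep_ta1 : Rep (TM 1) ta := (rep_word _).congr ckT1

theorem rep_T : ∀ k, k < 9 → Rep (TM k) (ta ^ k) := by
  intro k
  induction k with
  | zero => intro _; rw [pow_zero]; exact Rep.one.congr ckT0
  | succ k ih => intro hk; rw [pow_succ]; exact ((ih (by omega)).mul rep_ta1).congr (ckT k (by omega))

theorem ta9 : ta ^ 9 = 1 := by
  rw [pow_succ]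
  exact ((rep_T 8 (by norm_num)).mul rep_ta1).eq Rep.one ckT9

theorem pow_inv_of {x : TG} {n k m : ℕ} (hx : x ^ n = 1) (h : (k + m) % n = 0) : x ^ m = (x ^ k)⁻¹ := by
  rw [eq_inv_iff_mul_eq_one, ← pow_add, add_comm]
  obtain ⟨q, hq⟩ := Nat.dvd_of_mod_eq_zero h
  rw [hq, pow_mul, hx, one_pow]

/-- the involutions of the line -/
noncomputable def eG (k : ℕ) : TG := sg ^ k * lg .a * (sg ^ k)⁻¹

theorem eG_zero : eG 0 = lg .a := by unfold eG; rw [pow_zero]; group

theorem eG_conj (i k : ℕ) : sg ^ i * eG k * (sg ^ i)⁻¹ = eG (i + k) := by unfold eG; rw [pow_add]; group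

theorem rep_E : ∀ k, k < 31 → Rep (EM k) (eG k) := by
  intro k hk
  have h1 := (((rep_S k hk).mul (rep_lg .a)).mul (rep_S ((31 - k) % 31) (Nat.mod_lt _ (by norm_num)))).congr
    (ckE k (Nat.zero_le _) hk)
  unfold eG
  rwa [pow_inv_of sg31 (k := k) (m := (31 - k) % 31) (by omega)] at h1

theorem eG_period (k : ℕ) : eG (k + 31) = eG k := by
  unfold eG
  rw [pow_add, sg31, mul_one]

theorem eG_period_mul (k n : ℕ) : eG (k + 31 * n) = eG k := by
  induction n with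
  | zero => simp
  | succ n ih => rw [mul_add, mul_one, ← add_assoc, eG_period, ih]

theorem eG_mod (k : ℕ) : eG (k % 31) = eG k := by
  conv_rhs => rw [← Nat.mod_add_div k 31]
  rw [eG_period_mul]

theorem eG_congr {i j : ℕ} (h : i % 31 = j % 31) : eG i = eG j := by rw [← eG_mod i, h, eG_mod]

theorem rep_E' (k : ℕ) : Rep (EM (k % 31)) (eG k) := by
  rw [← eG_mod]; exact rep_E _ (Nat.mod_lt _ (by norm_num))

theorem eG_ne_one (k : ℕ) : eG k ≠ 1 := by
  have h0 : eG 0 ≠ 1 := (rep_E 0 (by norm_num)).ne Rep.one ckE1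
  intro h
  apply h0
  have := eG_conj k 0
  rw [add_zero, h, mul_inv_eq_one] at this
  simpa using this

theorem a_sq : lg .a * lg .a = 1 := ((rep_lg .a).mul (rep_lg .a)).eq Rep.one inv_a

theorem eG_sq (k : ℕ) : eG k * eG k = 1 := by
  unfold eG
  calc sg ^ k * lg .a * (sg ^ k)⁻¹ * (sg ^ k * lg .a * (sg ^ k)⁻¹) = sg ^ k * (lg .a * lg .a) * (sg ^ k)⁻¹ := by group
    _ = 1 := by rw [a_sq]; group

theorem eG_zero_ne (k : ℕ) (h1 : 1 ≤ k) (h2 : k < 31) : eG 0 ≠ eG k := by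
  obtain ⟨m, rfl⟩ : ∃ m, k = m + 1 := ⟨k - 1, by omega⟩
  exact (rep_E 0 (by norm_num)).ne (rep_E _ h2) (ckEn m (by omega))

theorem eG_inj {i j : ℕ} (hi : i < 31) (hj : j < 31) (h : eG i = eG j) : i = j := by
  have key : ∀ i j, i < j → j < 31 → eG i ≠ eG j := by
    intro i j hij hj h
    apply eG_zero_ne (j - i) (by omega) (by omega)
    have h1 := eG_conj i 0
    have h2 := eG_conj i (j - i)
    rw [show i + (j - i) = j by omega, ← h, ← add_zero i, ← h1] at h2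
    simpa using h2.symm
  rcases lt_trichotomy i j with h1 | h1 | h1
  · exact absurd h (key i j h1 hj)
  · exact h1
  · exact absurd h.symm (key j i h1 hi)

/-- products of the involutions -/
theorem eG_mul (i j : ℕ) : eG i * eG j = 1 ∨ ∃ k, eG i * eG j = eG k := by
  have hr : (j + 30 * i) % 31 < 31 := Nat.mod_lt _ (by norm_num)
  generalize hrd : (j + 30 * i) % 31 = r at hr
  have h1 : eG j = eG (i + r) := eG_congr (by omega)
  rw [h1, ← eG_conj i r, show eG i = sg ^ i * eG 0 * (sg ^ i)⁻¹ by rw [eG_conj, add_zero]]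
  have h2 : sg ^ i * eG 0 * (sg ^ i)⁻¹ * (sg ^ i * eG r * (sg ^ i)⁻¹) = sg ^ i * (eG 0 * eG r) * (sg ^ i)⁻¹ := by group
  rw [h2]
  rcases Nat.eq_zero_or_pos r with h3 | h3
  · left
    rw [h3, eG_sq]
    group
  · right
    obtain ⟨m, rfl⟩ : ∃ m, r = m + 1 := ⟨r - 1, by omega⟩
    have h4 : zeL.getD (m + 1) 0 < 31 := by
      have : ∀ m < 30, zeL.getD (m + 1) 0 < 31 := by decide
      exact this m (by omega)
    have h5 : eG 0 * eG (m + 1) = eG (zeL.getD (m + 1) 0) :=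
      ((rep_E 0 (by norm_num)).mul (rep_E _ hr)).eq (rep_E _ h4) (ckZ m (by omega))
    exact ⟨i + zeL.getD (m + 1) 0, by rw [h5, eG_conj]⟩

/-- the elementary abelian group of order 32 -/
noncomputable def E0 : Subgroup TG where
  carrier := {x | x = 1 ∨ ∃ k, x = eG k}
  one_mem' := Or.inl rfl
  mul_mem' := by
    rintro x y (rfl | ⟨i, rfl⟩) (rfl | ⟨j, rfl⟩)
    · left; rw [one_mul]
    · right; exact ⟨j, by rw [one_mul]⟩
    · right; exact ⟨i, by rw [mul_one]⟩
    · exact eG_mul i j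
  inv_mem' := by
    rintro x (rfl | ⟨i, rfl⟩)
    · left; rw [inv_one]
    · right; exact ⟨i, inv_eq_of_mul_eq_one_left (eG_sq i)⟩

theorem mem_E0 {x : TG} : x ∈ E0 ↔ x = 1 ∨ ∃ k, x = eG k := Iff.rfl

theorem eG_mem (k : ℕ) : eG k ∈ E0 := Or.inr ⟨k, rfl⟩

theorem E0_sq {x : TG} (hx : x ∈ E0) : x * x = 1 := by
  rcases hx with rfl | ⟨k, rfl⟩
  · rw [one_mul]
  · exact eG_sq k

theorem E0_comm {x y : TG} (hx : x ∈ E0) (hy : y ∈ E0) : x * y = y * x := by
  have h1 := E0_sq (E0.mul_mem hx hy)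
  have h2 := E0_sq hx
  have h3 := E0_sq hy
  have h4 : x⁻¹ = x := inv_eq_of_mul_eq_one_left h2
  have h5 : y⁻¹ = y := inv_eq_of_mul_eq_one_left h3
  have h6 : (x * y)⁻¹ = x * y := inv_eq_of_mul_eq_one_left h1
  rw [mul_inv_rev, h4, h5] at h6
  exact h6.symm

/-- the stabilizer of the line -/
noncomputable def DD : Subgroup TG where
  carrier := {x | ∀ e ∈ E0, x * e * x⁻¹ ∈ E0}
  one_mem' := by intro e he; simpa using he
  mul_mem' := by
    intro x y hx hy e he
    have := hx _ (hy e he)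
    have h2 : x * (y * e * y⁻¹) * x⁻¹ = x * y * e * (x * y)⁻¹ := by group
    rwa [h2] at this
  inv_mem' := by
    intro x hx e he
    have key : ∀ n : ℕ, ∀ e ∈ E0, x ^ n * e * (x ^ n)⁻¹ ∈ E0 := by
      intro n
      induction n with
      | zero => intro e he; simpa using he
      | succ n ih =>
        intro e he
        have := hx _ (ih e he)
        have h2 : x * (x ^ n * e * (x ^ n)⁻¹) * x⁻¹ = x ^ (n + 1) * e * (x ^ (n + 1))⁻¹ := by rw [pow_succ']; group
        rwa [h2] at this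
    have h1 := key (orderOf x - 1) e he
    have h3 : x ^ (orderOf x - 1) = x⁻¹ := by
      have h4 : x ^ (orderOf x - 1 + 1) = 1 := by
        rw [Nat.sub_add_cancel (orderOf_pos x), pow_orderOf_eq_one]
      rw [pow_succ] at h4
      exact eq_inv_of_mul_eq_one_left h4
    rwa [h3] at h1

theorem mem_DD {x : TG} : x ∈ DD ↔ ∀ e ∈ E0, x * e * x⁻¹ ∈ E0 := Iff.rfl

theorem eG_rec (k : ℕ) : eG (k + 5) = eG k * eG (k + 2) := by
  have h0 : eG 0 * eG 2 = eG 5 :=
    ((rep_E 0 (by norm_num)).mul (rep_E 2 (by norm_num))).eq (rep_E 5 (by norm_num)) (ckEe 0 (by norm_num))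
  rw [← eG_conj k 5, ← eG_conj k 2, ← h0, show eG k = sg ^ k * eG 0 * (sg ^ k)⁻¹ by rw [eG_conj, add_zero]]
  group

/-- membership in the stabilizer from five involutions -/
theorem mem_DD_of {x : TG} (h : ∀ k < 5, ∃ k' < 31, x * eG k = eG k' * x) : x ∈ DD := by
  have key : ∀ k, x * eG k * x⁻¹ ∈ E0 := by
    intro k
    induction k using Nat.strong_induction_on with
    | _ k ih =>
      by_cases hk : k < 5
      · obtain ⟨k', -, e⟩ := h k hk
        rw [e, mul_inv_cancel_right]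
        exact eG_mem _
      · obtain ⟨m, rfl⟩ : ∃ m, k = m + 5 := ⟨k - 5, by omega⟩
        have h1 := E0.mul_mem (ih m (by omega)) (ih (m + 2) (by omega))
        have h2 : x * eG m * x⁻¹ * (x * eG (m + 2) * x⁻¹) = x * (eG m * eG (m + 2)) * x⁻¹ := by group
        rwa [h2, ← eG_rec] at h1
  rintro e (rfl | ⟨k, rfl⟩)
  · rw [mul_one, mul_inv_cancel]; exact E0.one_mem
  · exact key k

theorem not_mem_DD_of {x x' : TG} {k k' : ℕ} (hx : x' = x⁻¹) (h : x * eG k * x' * eG k' ≠ eG k' * (x * eG k * x')) :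
    x ∉ DD := by
  subst hx
  intro hd
  exact h (E0_comm (hd _ (eG_mem k)) (eG_mem k'))

theorem mem_DD_of_chkD {x : ℕ} {g : TG} (hx : Rep x g) {es : List ℕ} (hes : ∀ k, es.getD k 0 < 31)
    (h : chkD EM x es = true) : g ∈ DD :=
  mem_DD_of (of_chkD (EG := eG) rep_E hx hes h)

theorem E0_le : E0 ≤ DD := by
  intro x hx e he
  rw [E0_comm hx he, mul_inv_cancel_right]
  exact he

theorem sg_mem : sg ∈ DD := by
  rintro e (rfl | ⟨k, rfl⟩)
  · rw [mul_one, mul_inv_cancel]; exact E0.one_mem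
  · have := eG_conj 1 k
    rw [pow_one] at this
    rw [this]; exact eG_mem _

/-- the stabilizer of the point `a` -/
noncomputable def CC : Subgroup TG := Subgroup.centralizer {lg .a}

theorem mem_CC {x : TG} : x ∈ CC ↔ lg .a * x = x * lg .a := by
  unfold CC
  rw [Subgroup.mem_centralizer_singleton_iff]
  exact eq_comm

theorem mem_CC_iff {x : TG} : x ∈ CC ↔ x * lg .a * x⁻¹ = lg .a := by
  rw [mem_CC, mul_inv_eq_iff_eq_mul]
  exact eq_comm

theorem mem_CC_of_chkC {x : ℕ} {g : TG} (hx : Rep x g) (h : chkC x = true) : g ∈ CC := mem_CC.2 (comm_of_chkC hx h)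

theorem ta_mem : ta ∈ CC := mem_CC_of_chkC rep_ta1 ckTC

theorem exD : ∀ d ∈ DD, ∃ k : Fin 31, (sg ^ (k : ℕ))⁻¹ * d ∈ CC := by
  intro d hd
  have h1 := hd _ (eG_mem 0)
  rcases h1 with h1 | ⟨k, h1⟩
  · exfalso
    rw [mul_inv_eq_one] at h1
    exact eG_ne_one 0 (by simpa using h1)
  · refine ⟨⟨k % 31, Nat.mod_lt _ (by norm_num)⟩, ?_⟩
    rw [mem_CC_iff]
    rw [← eG_mod k] at h1
    show (sg ^ (k % 31))⁻¹ * d * lg .a * ((sg ^ (k % 31))⁻¹ * d)⁻¹ = lg .a
    have h2 : (sg ^ (k % 31))⁻¹ * d * lg .a * ((sg ^ (k % 31))⁻¹ * d)⁻¹ =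
        (sg ^ (k % 31))⁻¹ * (d * lg .a * d⁻¹) * sg ^ (k % 31) := by group
    rw [h2, ← eG_zero, h1, eG_zero]
    unfold eG
    group

theorem unD : ∀ k k' : Fin 31, (sg ^ (k : ℕ))⁻¹ * sg ^ (k' : ℕ) ∈ CC → k = k' := by
  intro k k' h
  rw [mem_CC_iff] at h
  apply Fin.ext
  apply eG_inj k.2 k'.2
  unfold eG
  have h2 : sg ^ (k : ℕ) * ((sg ^ (k : ℕ))⁻¹ * sg ^ (k' : ℕ) * lg .a * ((sg ^ (k : ℕ))⁻¹ * sg ^ (k' : ℕ))⁻¹) *
      (sg ^ (k : ℕ))⁻¹ = sg ^ (k' : ℕ) * lg .a * (sg ^ (k' : ℕ))⁻¹ := by group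
  rw [← h2, h]

end Cfsg.Agent.H894.ThLine
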