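import Cfsg.Agent.H894.ThLine.Grp
import Cfsg.Agent.H894.ThLine.CkL1
import Cfsg.Agent.H894.ThLine.CkL2
import Cfsg.Agent.H894.ThLine.CkD0
import Cfsg.Agent.H894.ThLine.CkD1
import Cfsg.Agent.H894.ThLine.CkD2
import Cfsg.Agent.H894.ThLine.CkN
import Cfsg.Agent.H894.ThLine.CkXc
import Cfsg.Agent.H894.ThLine.CkXe
import Cfsg.Agent.H894.ThLine.CkXs
import Cfsg.Agent.H894.ThLine.CkXt
import Cfsg.Agent.H894.ThLine.CkXu

/-!
# Orders of the point and line stabilizers in the Thompson group (helper894)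
-/

set_option autoImplicit false

namespace Cfsg.Agent.H894.ThLine

open Cfsg.Agent.Th Cfsg.Agent.Th.Words248 Cfsg.Agent.Th.Gen248 Cfsg.Agent.Th.Hom248

/-- the letters -/
noncomputable def LG (q : ℕ) : TG := wv (lwd q)

theorem rep_L : ∀ q, q < 37 → Rep (LM q) (LG q) := by
  intro q hq
  rcases Nat.lt_or_ge q 20 with h | h
  · exact (rep_word _).congr (ckL1 q (Nat.zero_le _) h)
  · exact (rep_word _).congr (ckL2 q h hq)

theorem getD_lt {l : List ℕ} {m : ℕ} (hm : 0 < m) (h : ∀ x ∈ l, x < m) (k : ℕ) : l.getD k 0 < m := by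
  rw [List.getD_eq_getElem?_getD]
  cases h1 : l[k]? with
  | none => simpa using hm
  | some x => exact h x (List.mem_of_getElem? h1)

theorem LG_mem : ∀ q, q < 37 → LG q ∈ DD := by
  intro q hq
  have hes : ∀ q < 37, ∀ x ∈ dle q, x < 31 := by decide +kernel
  have h1 : dlc q = true := by
    rcases Nat.lt_or_ge q 13 with h | h
    · exact ckD0 q (Nat.zero_le _) h
    · rcases Nat.lt_or_ge q 25 with h' | h'
      · exact ckD1 q h h'
      · exact ckD2 q h' hq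
  exact mem_DD_of_chkD (rep_L q hq) (getD_lt (by norm_num) (hes q hq)) h1

/-- permutes the lines through `a` -/
def PP (x : TG) : Prop := ∀ l < 9, ∃ l' < 9, (ta ^ l')⁻¹ * x * ta ^ l ∈ DD

theorem PP.mul {x y : TG} (hx : PP x) (hy : PP y) : PP (x * y) := by
  intro l hl
  obtain ⟨l', hl', h1⟩ := hy l hl
  obtain ⟨m, hm, h2⟩ := hx l' hl'
  refine ⟨m, hm, ?_⟩
  have h3 := DD.mul_mem h2 h1
  have h4 : (ta ^ m)⁻¹ * x * ta ^ l' * ((ta ^ l')⁻¹ * y * ta ^ l) = (ta ^ m)⁻¹ * (x * y) * ta ^ l := by group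
  rwa [h4] at h3

theorem PP.one : PP 1 := fun l hl => ⟨l, hl, by
  rw [mul_one, inv_mul_cancel]; exact DD.one_mem⟩

theorem PP.pow {x : TG} (hx : PP x) (n : ℕ) : PP (x ^ n) := by
  induction n with
  | zero => rw [pow_zero]; exact PP.one
  | succ n ih => rw [pow_succ]; exact ih.mul hx

theorem PP.inv {x : TG} (hx : PP x) : PP x⁻¹ := by
  have h3 : x ^ (orderOf x - 1) = x⁻¹ := by
    have h4 : x ^ (orderOf x - 1 + 1) = 1 := by
      rw [Nat.sub_add_cancel (orderOf_pos x), pow_orderOf_eq_one]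
    rw [pow_succ] at h4
    exact eq_inv_of_mul_eq_one_left h4
  rw [← h3]
  exact hx.pow _

theorem PP_of {y : Lt} {f : List ℕ} {es : List (List ℕ)} (hf : ∀ x ∈ f, x < 9) (hes : ∀ e ∈ es, ∀ x ∈ e, x < 31)
    (h : ∀ l, 0 ≤ l → l < 9 → cxc y f es l = true) : PP (lg y) := by
  intro l hl
  have hf' := getD_lt (by norm_num : 0 < 9) hf l
  refine ⟨f.getD l 0, hf', ?_⟩
  have h1 : Rep (mul (mul (TM ((9 - f.getD l 0) % 9)) (pm y)) (TM l)) (ta ^ ((9 - f.getD l 0) % 9) * lg y * ta ^ l) :=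
    ((rep_T _ (Nat.mod_lt _ (by norm_num))).mul (rep_lg y)).mul (rep_T l hl)
  rw [pow_inv_of ta9 (k := f.getD l 0) (m := (9 - f.getD l 0) % 9) (by omega)] at h1
  refine mem_DD_of_chkD h1 ?_ (h l (Nat.zero_le _) hl)
  apply getD_lt (by norm_num)
  intro x hx
  rw [List.getD_eq_getElem?_getD] at hx
  cases h2 : es[l]? with
  | none => rw [h2] at hx; simp at hx
  | some e =>
    rw [h2] at hx
    exact hes e (List.mem_of_getElem? h2) x hx

theorem PP_c : PP (lg .c) := PP_of (by decide) (by decide) ckXc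

theorem PP_e : PP (lg .e) := PP_of (by decide) (by decide) ckXe

theorem PP_s : PP (lg .s) := PP_of (by decide) (by decide) ckXs

theorem PP_t : PP (lg .t) := PP_of (by decide) (by decide) ckXt

theorem PP_u : PP (lg .u) := PP_of (by decide) (by decide) ckXu

theorem a_comm_ta (l : ℕ) : lg .a * ta ^ l = ta ^ l * lg .a := mem_CC.1 (CC.pow_mem ta_mem l)

theorem PP_a : PP (lg .a) := by
  intro l hl
  refine ⟨l, hl, ?_⟩
  rw [mul_assoc, a_comm_ta, inv_mul_cancel_left, ← eG_zero]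
  exact E0_le (eG_mem 0)

theorem PP_ta : PP ta := by
  intro l hl
  refine ⟨(l + 1) % 9, Nat.mod_lt _ (by norm_num), ?_⟩
  have h1 : ta ^ ((l + 1) % 9) = ta ^ (l + 1) := by
    conv_rhs => rw [← Nat.mod_add_div (l + 1) 9]
    rw [pow_add, pow_mul, ta9, one_pow, mul_one]
  rw [h1, mul_assoc, ← pow_succ', inv_mul_cancel]
  exact DD.one_mem

theorem PP_d : PP (lg .d) := by
  have h1 : lg .d = ta * (lg .s)⁻¹ * (lg .e)⁻¹ := by
    have : ta = lg .d * (lg .e * (lg .s * 1)) := rfl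
    rw [this]; group
  rw [h1]
  exact (PP_ta.mul PP_s.inv).mul PP_e.inv

open Cfsg.Agent.Th.Word Cfsg.Agent.Th.KOracle Cfsg.Agent.Th.COracleDef Cfsg.Agent.Th.IndexUpper Cfsg.Agent.Th.FlagCover

theorem cc_facts : Nat.card CC = 92897280 ∧ CC = sub gTh isC := by
  obtain ⟨g, hN, hF⟩ := CoverMain.nodesTh
  have hcx : Cx gTh g := ⟨gTh_inv, gTh_relK, Cfsg.Agent.Th.Base.rel_th.C, hN, hF, gTh_top⟩
  obtain ⟨-, -, h1, h2⟩ := Cfsg.Agent.Th.Final.main
  have ha : gTh 1 ≠ 1 := by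
    have h3 : gTh 1 = eG 0 := by rw [eG_zero]; rfl
    rw [h3]
    exact eG_ne_one 0
  have h4 : CC = sub gTh isC := CentTh.centralizer_eq hcx h2 h1 Cfsg.Agent.Th.Final.isSimple ha
  refine ⟨?_, h4⟩
  rw [h4]
  exact CentTh.card_C hcx h2 h1

theorem PP_CC {x : TG} (hx : x ∈ CC) : PP x := by
  rw [cc_facts.2] at hx
  unfold sub at hx
  induction hx using Subgroup.closure_induction with
  | mem x hx =>
    obtain ⟨n, hn, rfl⟩ := hx
    have hn2 : (1 ≤ n ∧ n ≤ 11) ∧ (n ≤ 1 ∨ 3 ≤ n) := by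
      simp only [isC, Bool.and_eq_true, Bool.or_eq_true] at hn
      obtain ⟨⟨h1, h2⟩, h3⟩ := hn
      refine ⟨⟨Nat.le_of_ble_eq_true h1, Nat.le_of_ble_eq_true h2⟩, ?_⟩
      rcases h3 with h3 | h3
      · exact Or.inl (Nat.le_of_ble_eq_true h3)
      · exact Or.inr (Nat.le_of_ble_eq_true h3)
    obtain ⟨⟨h1, h2⟩, h3⟩ := hn2
    interval_cases n
    · exact PP_a
    · omega
    · exact PP_c
    · exact PP_d
    · exact PP_e
    · exact PP_s
    · exact PP_s.inv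
    · exact PP_t
    · exact PP_t.inv
    · exact PP_u
    · exact PP_u.inv
  | one => exact PP.one
  | mul x y _ _ h1 h2 => exact h1.mul h2
  | inv x _ h => exact h.inv

theorem exC : ∀ c ∈ CC, ∃ l : Fin 9, (ta ^ (l : ℕ))⁻¹ * c ∈ DD := by
  intro c hc
  obtain ⟨l, hl, h⟩ := PP_CC hc 0 (by norm_num)
  refine ⟨⟨l, hl⟩, ?_⟩
  rwa [pow_zero, mul_one] at h

theorem ta_pow_not_mem (m : ℕ) (h1 : 1 ≤ m) (h2 : m < 9) : ta ^ m ∉ DD := by
  obtain ⟨k, rfl⟩ : ∃ k, m = k + 1 := ⟨m - 1, by omega⟩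
  have hb : ∀ k < 8, (ntL.getD (k + 1) (0, 0)).1 < 31 ∧ (ntL.getD (k + 1) (0, 0)).2 < 31 := by decide
  obtain ⟨h3, h4⟩ := hb k (by omega)
  have h5 := of_chkN (rep_T (k + 1) h2) (rep_T (8 - k) (by omega)) (rep_E _ h3) (rep_E _ h4) (ckNT k (by omega))
  exact not_mem_DD_of (pow_inv_of ta9 (by omega)) h5

theorem unC : ∀ l l' : Fin 9, (ta ^ (l : ℕ))⁻¹ * ta ^ (l' : ℕ) ∈ DD → l = l' := by
  intro l l' h
  have hl := l.2
  have hl' := l'.2
  by_contra hne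
  have hne' : (l : ℕ) ≠ l' := fun h => hne (Fin.ext h)
  rw [← pow_inv_of ta9 (k := (l : ℕ)) (m := (9 - l) % 9) (by omega), ← pow_add] at h
  have h1 : ta ^ ((9 - (l : ℕ)) % 9 + l') = ta ^ (((9 - (l : ℕ)) % 9 + l') % 9) := by
    conv_lhs => rw [← Nat.mod_add_div ((9 - (l : ℕ)) % 9 + l') 9]
    rw [pow_add, pow_mul, ta9, one_pow, mul_one]
  rw [h1] at h
  exact ta_pow_not_mem _ (by omega) (Nat.mod_lt _ (by norm_num)) h

theorem card_reps {G : Type*} [Group G] {C D : Subgroup G} {b : ℕ} (γ : Fin b → G) (hγ : ∀ l, γ l ∈ C)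
    (exC : ∀ c ∈ C, ∃ l, (γ l)⁻¹ * c ∈ D) (unC : ∀ l l', (γ l)⁻¹ * γ l' ∈ D → l = l') :
    Nat.card C = b * Nat.card (C ⊓ D : Subgroup G) := by
  have h1 : Nat.card (Fin b × (C ⊓ D : Subgroup G)) = b * Nat.card (C ⊓ D : Subgroup G) := by
    rw [Nat.card_prod, Nat.card_eq_fintype_card, Fintype.card_fin]
  rw [← h1]
  symm
  apply Nat.card_congr
  apply Equiv.ofBijective (fun p : Fin b × (C ⊓ D : Subgroup G) =>
    (⟨γ p.1 * p.2, C.mul_mem (hγ _) p.2.2.1⟩ : C))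
  constructor
  · rintro ⟨l, x, hx⟩ ⟨l', x', hx'⟩ h
    have h2 : γ l * x = γ l' * x' := congrArg Subtype.val h
    have h3 : (γ l)⁻¹ * γ l' = x * x'⁻¹ := by
      rw [inv_mul_eq_iff_eq_mul, ← mul_assoc, h2, mul_inv_cancel_right]
    have h4 : l = l' := unC l l' (by rw [h3]; exact D.mul_mem hx.2 (D.inv_mem hx'.2))
    subst h4
    have h5 : x = x' := mul_left_cancel h2
    subst h5
    rfl
  · rintro ⟨c, hc⟩
    obtain ⟨l, hl⟩ := exC c hc
    exact ⟨(l, ⟨(γ l)⁻¹ * c, C.mul_mem (C.inv_mem (hγ l)) hc, hl⟩), Subtype.ext (by simp)⟩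

theorem card_DD : Nat.card DD = 319979520 := by
  have h1 := card_reps (C := CC) (D := DD) (fun l : Fin 9 => ta ^ (l : ℕ)) (fun l => CC.pow_mem ta_mem _) exC unC
  have h2 := card_reps (C := DD) (D := CC) (fun k : Fin 31 => sg ^ (k : ℕ)) (fun k => DD.pow_mem sg_mem _) exD unD
  rw [cc_facts.1] at h1
  rw [inf_comm] at h2
  omega

end Cfsg.Agent.H894.ThLine
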