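import Cfsg.Agent.Th.Final

/-!
# Packed matrices of elements of the Thompson group (helper894)

`Rep x g`: the packed matrix `x` is the image of `g : Cfsg.Spor.Th` in the faithful 248-dimensional representation over
`F_3`.
-/

set_option autoImplicit false

namespace Cfsg.Agent.H894.ThLine

open Cfsg.Agent.Th Cfsg.Agent.Th.Words248 Cfsg.Agent.Th.Gen248 Cfsg.Agent.Th.Hom248

/-- the group -/
abbrev TG : Type := Cfsg.Spor.Th

/-- the packed matrix `x` represents `g` -/
def Rep (x : ℕ) (g : TG) : Prop := Ok x ∧ mat x = (rho g : Matrix (Fin 248) (Fin 248) (ZMod 3))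

theorem Rep.mul {x y : ℕ} {g h : TG} (hx : Rep x g) (hy : Rep y h) : Rep (mul x y) (g * h) := by
  have h1 := mul_spec hx.1 hy.1
  refine ⟨h1.1, ?_⟩
  rw [h1.2, hx.2, hy.2, map_mul]
  rfl

theorem Rep.one : Rep idm 1 := ⟨idm_spec.1, by rw [map_one]; exact idm_spec.2⟩

theorem Rep.uniq {x : ℕ} {g h : TG} (hx : Rep x g) (hy : Rep x h) : g = h := by
  apply Cfsg.Agent.Th.Final.rho_injective
  apply Units.ext
  rw [← hx.2, ← hy.2]

theorem Rep.congr {x y : ℕ} {g : TG} (hx : Rep x g) (h : Nat.beq x y = true) : Rep y g := by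
  rw [← Nat.eq_of_beq_eq_true h]; exact hx

theorem Rep.eq {x y : ℕ} {g h : TG} (hx : Rep x g) (hy : Rep y h) (e : Nat.beq x y = true) : g = h :=
  (hx.congr e).uniq hy

theorem Rep.ne {x y : ℕ} {g h : TG} (hx : Rep x g) (hy : Rep y h) (e : Nat.beq x y = false) : g ≠ h := by
  rintro rfl
  have : x = y := mat_injective hx.1 hy.1 (by rw [hx.2, hy.2])
  rw [this] at e
  simp at e

/-- a letter as group element -/
noncomputable def lg (l : Lt) : TG := PresentedGroup.mk _ (toF l)

theorem rep_lg (l : Lt) : Rep (pm l) (lg l) := by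
  refine ⟨ok_pm l, ?_⟩
  have h1 : lg l = PresentedGroup.mk _ (toFree (.g l)) := rfl
  rw [h1, rho_mk]
  rfl

/-- a word as group element -/
noncomputable def wv : List Lt → TG
  | [] => 1
  | l :: w => lg l * wv w

/-- packed matrix of a word times `x` -/
noncomputable def evl (x : ℕ) : List Lt → ℕ
  | [] => x
  | l :: w => evl (mul x (pm l)) w

theorem rep_evl {x : ℕ} {g : TG} (hx : Rep x g) (w : List Lt) : Rep (evl x w) (g * wv w) := by
  induction w generalizing x g with
  | nil => show Rep x (g * 1); rw [mul_one]; exact hx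
  | cons l w ih =>
    have h1 := ih (hx.mul (rep_lg l))
    show Rep (evl (Words248.mul x (pm l)) w) (g * (lg l * wv w))
    rw [← mul_assoc]
    exact h1

theorem rep_word (w : List Lt) : Rep (evl idm w) (wv w) := by
  have := rep_evl Rep.one w
  rwa [one_mul] at this

/-- commutation with `a` -/
noncomputable def chkC (x : ℕ) : Bool := force x fun y => Nat.beq (mul (pm .a) y) (mul y (pm .a))

theorem comm_of_chkC {x : ℕ} {g : TG} (hx : Rep x g) (h : chkC x = true) : lg .a * g = g * lg .a := by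
  unfold chkC at h
  rw [force_eq] at h
  exact ((rep_lg .a).mul hx).eq (hx.mul (rep_lg .a)) h

/-- a product of table entries -/
noncomputable def wpr (LM : ℕ → ℕ) (x : ℕ) : List ℕ → ℕ
  | [] => x
  | q :: w => wpr LM (mul x (LM q)) w

/-- a product of table entries -/
def wpg (LG : ℕ → TG) : List ℕ → TG
  | [] => 1
  | q :: w => LG q * wpg LG w

theorem rep_wpr {LM : ℕ → ℕ} {LG : ℕ → TG} {N : ℕ} (hL : ∀ q < N, Rep (LM q) (LG q)) {x : ℕ} {g : TG} (hx : Rep x g)
    (w : List ℕ) (hw : ∀ q ∈ w, q < N) : Rep (wpr LM x w) (g * wpg LG w) := by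
  induction w generalizing x g with
  | nil => show Rep x (g * 1); rw [mul_one]; exact hx
  | cons q w ih =>
    have h1 := ih (hx.mul (hL q (hw q (by simp)))) (fun r hr => hw r (by simp [hr]))
    show Rep (wpr LM (Words248.mul x (LM q)) w) (g * (LG q * wpg LG w))
    rw [← mul_assoc]
    exact h1

theorem wpg_mem {LG : ℕ → TG} {N : ℕ} {D : Subgroup TG} (hL : ∀ q < N, LG q ∈ D) (w : List ℕ) (hw : ∀ q ∈ w, q < N) :
    wpg LG w ∈ D := by
  induction w with
  | nil => exact D.one_mem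
  | cons q w ih => exact D.mul_mem (hL q (hw q (by simp))) (ih fun r hr => hw r (by simp [hr]))

/-- `x e_k = e_{es k} x` for `k < 5` -/
noncomputable def chkD (EM : ℕ → ℕ) (x : ℕ) (es : List ℕ) : Bool :=
  force x fun y => (Nat.beq (mul y (EM 0)) (mul (EM (es.getD 0 0)) y)) && (Nat.beq (mul y (EM 1)) (mul (EM (es.getD 1 0)) y)) &&
    (Nat.beq (mul y (EM 2)) (mul (EM (es.getD 2 0)) y)) && (Nat.beq (mul y (EM 3)) (mul (EM (es.getD 3 0)) y)) &&
    (Nat.beq (mul y (EM 4)) (mul (EM (es.getD 4 0)) y))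

theorem of_chkD {EM : ℕ → ℕ} {EG : ℕ → TG} (hE : ∀ q < 31, Rep (EM q) (EG q)) {x : ℕ} {g : TG} (hx : Rep x g) {es : List ℕ}
    (hes : ∀ k, es.getD k 0 < 31) (h : chkD EM x es = true) :
    ∀ k < 5, ∃ k' < 31, g * EG k = EG k' * g := by
  unfold chkD at h
  rw [force_eq] at h
  simp only [Bool.and_eq_true] at h
  obtain ⟨⟨⟨⟨h0, h1⟩, h2⟩, h3⟩, h4⟩ := h
  intro k hk
  have key : ∀ k < 31, Nat.beq (Words248.mul x (EM k)) (Words248.mul (EM (es.getD k 0)) x) = true →
      ∃ k' < 31, g * EG k = EG k' * g := fun k hk e =>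
    ⟨es.getD k 0, hes k, (hx.mul (hE k hk)).eq ((hE _ (hes k)).mul hx) e⟩
  obtain rfl | rfl | rfl | rfl | rfl : k = 0 ∨ k = 1 ∨ k = 2 ∨ k = 3 ∨ k = 4 := by omega
  · exact key 0 (by norm_num) h0
  · exact key 1 (by norm_num) h1
  · exact key 2 (by norm_num) h2
  · exact key 3 (by norm_num) h3
  · exact key 4 (by norm_num) h4

/-- `x y x'` does not commute with `z` -/
noncomputable def chkN (x x' y z : ℕ) : Bool :=
  force (mul (mul x y) x') fun w => !(Nat.beq (mul w z) (mul z w))

theorem of_chkN {x x' y z : ℕ} {g g' h k : TG} (hx : Rep x g) (hx' : Rep x' g') (hy : Rep y h) (hz : Rep z k)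
    (e : chkN x x' y z = true) : g * h * g' * k ≠ k * (g * h * g') := by
  unfold chkN at e
  rw [force_eq] at e
  have h1 := (hx.mul hy).mul hx'
  exact (h1.mul hz).ne (hz.mul h1) (by simpa using e)

end Cfsg.Agent.H894.ThLine
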