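import Cfsg.Agent.H894.ThLine.Pt
import Cfsg.Agent.H894.ThLine.CkG
import Cfsg.Agent.H894.ThLine.Abs
import Cfsg.Agent.H894.ThLine.CkLP0
import Cfsg.Agent.H894.ThLine.CkLP1
import Cfsg.Agent.H894.ThLine.CkLP2
import Cfsg.Agent.H894.ThLine.CkLP3
import Cfsg.Agent.H894.ThLine.CkLP4
import Cfsg.Agent.H894.ThLine.CkLP5
import Cfsg.Agent.H894.ThLine.CkLP6
import Cfsg.Agent.H894.ThLine.CkLP7
import Cfsg.Agent.H894.ThLine.CkLP8
import Cfsg.Agent.H894.ThLine.CkLP9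
import Cfsg.Agent.H894.ThLine.CkLP10
import Cfsg.Agent.H894.ThLine.CkPL0
import Cfsg.Agent.H894.ThLine.CkPL1
import Cfsg.Agent.H894.ThLine.CkPL2
import Cfsg.Agent.H894.ThLine.CkPL3
import Cfsg.Agent.H894.ThLine.CkPL4
import Cfsg.Agent.H894.ThLine.CkPL5

/-!
# Representatives of the lines and points of the Thompson geometry (helper894)
-/

set_option autoImplicit false

namespace Cfsg.Agent.H894.ThLine

open Cfsg.Agent.Th Cfsg.Agent.Th.Words248 Cfsg.Agent.Th.Gen248 Cfsg.Agent.Th.Hom248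

/-- inverse of a product -/
theorem Rep.inv_step {x : ℕ} {y : TG} {z : ℕ} {w : TG} {n k m q : ℕ} (hy : y ^ n = 1) (hx : Rep x (y ^ m))
    (hz : Rep z w⁻¹) (hkm : (k + m) % n = 0) (e : Nat.beq (Words248.mul x z) q = true) : Rep q (w * y ^ k)⁻¹ := by
  rw [mul_inv_rev, ← pow_inv_of hy hkm]
  exact (hx.mul hz).congr e

/-- line representative -/
noncomputable def g0 : TG := 1

theorem rg0 : Rep (GM 0) g0 := Rep.one.congr ckG0

theorem rgi0 : Rep (GiM 0) g0⁻¹ := by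
  unfold g0
  rw [inv_one]
  exact Rep.one.congr ckGi0

/-- point representative -/
noncomputable def h0 : TG := g0 * sg ^ 0

theorem rh0 : Rep (HM 0) h0 := (rg0.mul (rep_S 0 (by norm_num))).congr ckH0

theorem rhi0 : Rep (HiM 0) h0⁻¹ :=
  Rep.inv_step sg31 (rep_S 0 (by norm_num)) rgi0 (by norm_num) ckHi0

/-- line representative -/
noncomputable def g1 : TG := h0 * ta ^ 1

theorem rg1 : Rep (GM 1) g1 := (rh0.mul (rep_T 1 (by norm_num))).congr ckG1

theorem rgi1 : Rep (GiM 1) g1⁻¹ :=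
  Rep.inv_step ta9 (rep_T 8 (by norm_num)) rhi0 (by norm_num) ckGi1

/-- point representative -/
noncomputable def h1 : TG := g1 * sg ^ 1

theorem rh1 : Rep (HM 1) h1 := (rg1.mul (rep_S 1 (by norm_num))).congr ckH1

theorem rhi1 : Rep (HiM 1) h1⁻¹ :=
  Rep.inv_step sg31 (rep_S 30 (by norm_num)) rgi1 (by norm_num) ckHi1

/-- line representative -/
noncomputable def g2 : TG := h1 * ta ^ 1

theorem rg2 : Rep (GM 2) g2 := (rh1.mul (rep_T 1 (by norm_num))).congr ckG2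

theorem rgi2 : Rep (GiM 2) g2⁻¹ :=
  Rep.inv_step ta9 (rep_T 8 (by norm_num)) rhi1 (by norm_num) ckGi2

/-- point representative -/
noncomputable def h2 : TG := g2 * sg ^ 1

theorem rh2 : Rep (HM 2) h2 := (rg2.mul (rep_S 1 (by norm_num))).congr ckH2

theorem rhi2 : Rep (HiM 2) h2⁻¹ :=
  Rep.inv_step sg31 (rep_S 30 (by norm_num)) rgi2 (by norm_num) ckHi2

/-- point representative -/
noncomputable def h3 : TG := g2 * sg ^ 4

theorem rh3 : Rep (HM 3) h3 := (rg2.mul (rep_S 4 (by norm_num))).congr ckH3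

theorem rhi3 : Rep (HiM 3) h3⁻¹ :=
  Rep.inv_step sg31 (rep_S 27 (by norm_num)) rgi2 (by norm_num) ckHi3

/-- line representative -/
noncomputable def g3 : TG := h2 * ta ^ 1

theorem rg3 : Rep (GM 3) g3 := (rh2.mul (rep_T 1 (by norm_num))).congr ckG3

theorem rgi3 : Rep (GiM 3) g3⁻¹ :=
  Rep.inv_step ta9 (rep_T 8 (by norm_num)) rhi2 (by norm_num) ckGi3

/-- line representative -/
noncomputable def g4 : TG := h3 * ta ^ 1

theorem rg4 : Rep (GM 4) g4 := (rh3.mul (rep_T 1 (by norm_num))).congr ckG4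

theorem rgi4 : Rep (GiM 4) g4⁻¹ :=
  Rep.inv_step ta9 (rep_T 8 (by norm_num)) rhi3 (by norm_num) ckGi4

/-- point representative -/
noncomputable def h4 : TG := g3 * sg ^ 1

theorem rh4 : Rep (HM 4) h4 := (rg3.mul (rep_S 1 (by norm_num))).congr ckH4

theorem rhi4 : Rep (HiM 4) h4⁻¹ :=
  Rep.inv_step sg31 (rep_S 30 (by norm_num)) rgi3 (by norm_num) ckHi4

/-- point representative -/
noncomputable def h5 : TG := g3 * sg ^ 2

theorem rh5 : Rep (HM 5) h5 := (rg3.mul (rep_S 2 (by norm_num))).congr ckH5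

theorem rhi5 : Rep (HiM 5) h5⁻¹ :=
  Rep.inv_step sg31 (rep_S 29 (by norm_num)) rgi3 (by norm_num) ckHi5

/-- point representative -/
noncomputable def h6 : TG := g3 * sg ^ 4

theorem rh6 : Rep (HM 6) h6 := (rg3.mul (rep_S 4 (by norm_num))).congr ckH6

theorem rhi6 : Rep (HiM 6) h6⁻¹ :=
  Rep.inv_step sg31 (rep_S 27 (by norm_num)) rgi3 (by norm_num) ckHi6

/-- point representative -/
noncomputable def h7 : TG := g4 * sg ^ 1

theorem rh7 : Rep (HM 7) h7 := (rg4.mul (rep_S 1 (by norm_num))).congr ckH7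

theorem rhi7 : Rep (HiM 7) h7⁻¹ :=
  Rep.inv_step sg31 (rep_S 30 (by norm_num)) rgi4 (by norm_num) ckHi7

/-- point representative -/
noncomputable def h8 : TG := g4 * sg ^ 9

theorem rh8 : Rep (HM 8) h8 := (rg4.mul (rep_S 9 (by norm_num))).congr ckH8

theorem rhi8 : Rep (HiM 8) h8⁻¹ :=
  Rep.inv_step sg31 (rep_S 22 (by norm_num)) rgi4 (by norm_num) ckHi8

/-- line representative -/
noncomputable def g5 : TG := h4 * ta ^ 1

theorem rg5 : Rep (GM 5) g5 := (rh4.mul (rep_T 1 (by norm_num))).congr ckG5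

theorem rgi5 : Rep (GiM 5) g5⁻¹ :=
  Rep.inv_step ta9 (rep_T 8 (by norm_num)) rhi4 (by norm_num) ckGi5

/-- line representative -/
noncomputable def g6 : TG := h5 * ta ^ 1

theorem rg6 : Rep (GM 6) g6 := (rh5.mul (rep_T 1 (by norm_num))).congr ckG6

theorem rgi6 : Rep (GiM 6) g6⁻¹ :=
  Rep.inv_step ta9 (rep_T 8 (by norm_num)) rhi5 (by norm_num) ckGi6

/-- line representative -/
noncomputable def g7 : TG := h6 * ta ^ 1

theorem rg7 : Rep (GM 7) g7 := (rh6.mul (rep_T 1 (by norm_num))).congr ckG7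

theorem rgi7 : Rep (GiM 7) g7⁻¹ :=
  Rep.inv_step ta9 (rep_T 8 (by norm_num)) rhi6 (by norm_num) ckGi7

/-- point representative -/
noncomputable def h9 : TG := g5 * sg ^ 1

theorem rh9 : Rep (HM 9) h9 := (rg5.mul (rep_S 1 (by norm_num))).congr ckH9

theorem rhi9 : Rep (HiM 9) h9⁻¹ :=
  Rep.inv_step sg31 (rep_S 30 (by norm_num)) rgi5 (by norm_num) ckHi9

/-- point representative -/
noncomputable def h10 : TG := g5 * sg ^ 2

theorem rh10 : Rep (HM 10) h10 := (rg5.mul (rep_S 2 (by norm_num))).congr ckH10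

theorem rhi10 : Rep (HiM 10) h10⁻¹ :=
  Rep.inv_step sg31 (rep_S 29 (by norm_num)) rgi5 (by norm_num) ckHi10

/-- point representative -/
noncomputable def h11 : TG := g5 * sg ^ 12

theorem rh11 : Rep (HM 11) h11 := (rg5.mul (rep_S 12 (by norm_num))).congr ckH11

theorem rhi11 : Rep (HiM 11) h11⁻¹ :=
  Rep.inv_step sg31 (rep_S 19 (by norm_num)) rgi5 (by norm_num) ckHi11

/-- line representative -/
noncomputable def g8 : TG := h9 * ta ^ 4

theorem rg8 : Rep (GM 8) g8 := (rh9.mul (rep_T 4 (by norm_num))).congr ckG8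

theorem rgi8 : Rep (GiM 8) g8⁻¹ :=
  Rep.inv_step ta9 (rep_T 5 (by norm_num)) rhi9 (by norm_num) ckGi8

/-- line representative -/
noncomputable def g9 : TG := h11 * ta ^ 5

theorem rg9 : Rep (GM 9) g9 := (rh11.mul (rep_T 5 (by norm_num))).congr ckG9

theorem rgi9 : Rep (GiM 9) g9⁻¹ :=
  Rep.inv_step ta9 (rep_T 4 (by norm_num)) rhi11 (by norm_num) ckGi9

/-- line representative -/
noncomputable def g10 : TG := h11 * ta ^ 7

theorem rg10 : Rep (GM 10) g10 := (rh11.mul (rep_T 7 (by norm_num))).congr ckG10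

theorem rgi10 : Rep (GiM 10) g10⁻¹ :=
  Rep.inv_step ta9 (rep_T 2 (by norm_num)) rhi11 (by norm_num) ckGi10

/-- line representatives -/
noncomputable def gG : ℕ → TG
  | 0 => g0
  | 1 => g1
  | 2 => g2
  | 3 => g3
  | 4 => g4
  | 5 => g5
  | 6 => g6
  | 7 => g7
  | 8 => g8
  | 9 => g9
  | 10 => g10
  | _ => 1

/-- point representatives -/
noncomputable def hG : ℕ → TG
  | 0 => h0
  | 1 => h1
  | 2 => h2
  | 3 => h3
  | 4 => h4
  | 5 => h5
  | 6 => h6
  | 7 => h7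
  | 8 => h8
  | 9 => h9
  | 10 => h10
  | 11 => h11
  | _ => 1

theorem rep_G : ∀ i, i < 11 → Rep (GM i) (gG i) := by
  intro i hi
  interval_cases i
  · exact rg0
  · exact rg1
  · exact rg2
  · exact rg3
  · exact rg4
  · exact rg5
  · exact rg6
  · exact rg7
  · exact rg8
  · exact rg9
  · exact rg10

theorem rep_Gi : ∀ i, i < 11 → Rep (GiM i) (gG i)⁻¹ := by
  intro i hi
  interval_cases i
  · exact rgi0
  · exact rgi1
  · exact rgi2
  · exact rgi3
  · exact rgi4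
  · exact rgi5
  · exact rgi6
  · exact rgi7
  · exact rgi8
  · exact rgi9
  · exact rgi10

theorem rep_H : ∀ i, i < 12 → Rep (HM i) (hG i) := by
  intro i hi
  interval_cases i
  · exact rh0
  · exact rh1
  · exact rh2
  · exact rh3
  · exact rh4
  · exact rh5
  · exact rh6
  · exact rh7
  · exact rh8
  · exact rh9
  · exact rh10
  · exact rh11

theorem rep_Hi : ∀ i, i < 12 → Rep (HiM i) (hG i)⁻¹ := by
  intro i hi
  interval_cases i
  · exact rhi0
  · exact rhi1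
  · exact rhi2
  · exact rhi3
  · exact rhi4
  · exact rhi5
  · exact rhi6
  · exact rhi7
  · exact rhi8
  · exact rhi9
  · exact rhi10
  · exact rhi11

theorem lp_all : ∀ i, i < 11 → ∀ k, k < 31 → lpc i k = true := by
  intro i hi k hk
  interval_cases i
  · exact ckLP0 k (Nat.zero_le _) hk
  · exact ckLP1 k (Nat.zero_le _) hk
  · exact ckLP2 k (Nat.zero_le _) hk
  · exact ckLP3 k (Nat.zero_le _) hk
  · exact ckLP4 k (Nat.zero_le _) hk
  · exact ckLP5 k (Nat.zero_le _) hk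
  · exact ckLP6 k (Nat.zero_le _) hk
  · exact ckLP7 k (Nat.zero_le _) hk
  · exact ckLP8 k (Nat.zero_le _) hk
  · exact ckLP9 k (Nat.zero_le _) hk
  · exact ckLP10 k (Nat.zero_le _) hk

theorem pl_all : ∀ j, j < 12 → ∀ l, l < 9 → plc j l = true := by
  intro j hj l hl
  interval_cases j
  · exact ckPL0 l (Nat.zero_le _) hl
  · exact ckPL1 l (Nat.zero_le _) hl
  · exact ckPL2 l (Nat.zero_le _) hl
  · exact ckPL3 l (Nat.zero_le _) hl
  · exact ckPL4 l (Nat.zero_le _) hl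
  · exact ckPL5 l (Nat.zero_le _) hl
  · exact ckPL6 l (Nat.zero_le _) hl
  · exact ckPL7 l (Nat.zero_le _) hl
  · exact ckPL8 l (Nat.zero_le _) hl
  · exact ckPL9 l (Nat.zero_le _) hl
  · exact ckPL10 l (Nat.zero_le _) hl
  · exact ckPL11 l (Nat.zero_le _) hl

theorem lamN_lt : ∀ i < 11, ∀ k < 31, lamN i k < 12 := by decide +kernel

theorem muN_lt : ∀ j < 12, ∀ l < 9, muN j l < 11 := by decide +kernel

theorem lpw_lt : ∀ i < 11, ∀ k < 31, ∀ q ∈ lpw i k, q < 37 := by decide +kernel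

theorem plw_lt : ∀ j < 12, ∀ l < 9, ∀ q ∈ plw j l, q < 37 := by decide +kernel

theorem ple_lt : ∀ j < 12, ∀ l < 9, ∀ q ∈ ple j l, q < 31 := by decide +kernel

theorem lp (i k : ℕ) (hi : i < 11) (hk : k < 31) : ∃ d ∈ DD, ∃ c ∈ CC, gG i * sg ^ k = d * hG (lamN i k) * c := by
  have h1 := lp_all i hi k hk
  have h2 := rep_wpr (LG := LG) rep_L (rep_Hi _ (lamN_lt i hi k hk)) (lpw i k) (lpw_lt i hi k hk)
  have h3 := mem_CC_of_chkC ((h2.mul (rep_G i hi)).mul (rep_S k hk)) h1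
  refine ⟨(wpg LG (lpw i k))⁻¹, DD.inv_mem (wpg_mem LG_mem _ (lpw_lt i hi k hk)), _, h3, ?_⟩
  group

theorem pl (j l : ℕ) (hj : j < 12) (hl : l < 9) : ∃ d ∈ DD, ∃ d' ∈ DD, hG j * ta ^ l = d * gG (muN j l) * d' := by
  have h1 := pl_all j hj l hl
  have h2 := rep_wpr (LG := LG) rep_L (rep_Gi _ (muN_lt j hj l hl)) (plw j l) (plw_lt j hj l hl)
  have h3 := mem_DD_of_chkD ((h2.mul (rep_H j hj)).mul (rep_T l hl)) (getD_lt (by norm_num) (ple_lt j hj l hl)) h1
  refine ⟨(wpg LG (plw j l))⁻¹, DD.inv_mem (wpg_mem LG_mem _ (plw_lt j hj l hl)), _, h3, ?_⟩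
  group

theorem g_not_mem : ∀ i, 1 ≤ i → i < 11 → gG i ∉ DD := by
  intro i h1 h2
  have hb : ∀ i < 11, (ngL.getD i (0, 0)).1 < 31 ∧ (ngL.getD i (0, 0)).2 < 31 := by decide
  obtain ⟨h3, h4⟩ := hb i h2
  exact not_mem_DD_of rfl (of_chkN (rep_G i h2) (rep_Gi i h2) (rep_E _ h3) (rep_E _ h4) (ckNG i h1 h2))

theorem top : CC ⊔ DD = ⊤ := by
  have hs : sg ∈ CC ⊔ DD := (le_sup_right : DD ≤ CC ⊔ DD) sg_mem
  have ht : ta ∈ CC ⊔ DD := (le_sup_left : CC ≤ CC ⊔ DD) ta_mem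
  have hb : lg .b ∈ CC ⊔ DD := by
    have hw : ∀ q ∈ [8, 31, 10, 7], q < 37 := by decide
    have e2 := rep_wpr (LG := LG) rep_L (rep_Hi 3 (by norm_num)) [8, 31, 10, 7] hw
    have e3 := mem_CC_of_chkC (e2.mul (rep_lg .b)) ckB
    have e4 : lg .b = (wpg LG [8, 31, 10, 7])⁻¹ * hG 3 * ((hG 3)⁻¹ * wpg LG [8, 31, 10, 7] * lg .b) := by group
    rw [e4]
    refine Subgroup.mul_mem _ (Subgroup.mul_mem _ ?_ ?_) ((le_sup_left : CC ≤ CC ⊔ DD) e3)
    · exact (le_sup_right : DD ≤ CC ⊔ DD) (DD.inv_mem (wpg_mem LG_mem _ hw))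
    · show h3 ∈ CC ⊔ DD
      unfold h3 g2 h1 g1 h0 g0
      exact Subgroup.mul_mem _ (Subgroup.mul_mem _ (Subgroup.mul_mem _ (Subgroup.mul_mem _ (Subgroup.mul_mem _
        (Subgroup.one_mem _) (Subgroup.pow_mem _ hs _)) (Subgroup.pow_mem _ ht _)) (Subgroup.pow_mem _ hs _))
        (Subgroup.pow_mem _ ht _)) (Subgroup.pow_mem _ hs _)
  have hC : ∀ n, Cfsg.Agent.Th.Word.isC n = true → Cfsg.Agent.Th.IndexUpper.gTh n ∈ CC ⊔ DD := by
    intro n hn
    apply (le_sup_left : CC ≤ CC ⊔ DD)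
    rw [cc_facts.2]
    exact Subgroup.subset_closure ⟨n, hn, rfl⟩
  rw [eq_top_iff, ← PresentedGroup.closure_range_of, Subgroup.closure_le]
  rintro _ ⟨x, rfl⟩
  cases x
  · exact hC 1 rfl
  · exact hb
  · exact hC 3 rfl
  · exact hC 4 rfl
  · exact hC 5 rfl
  · exact hC 6 rfl
  · exact hC 8 rfl
  · exact hC 10 rfl

/-- **the geometry** -/
noncomputable def cov : Cov TG CC DD 31 9 11 12 where
  δ k := sg ^ (k : ℕ)
  γ l := ta ^ (l : ℕ)
  hδ k := DD.pow_mem sg_mem _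
  hγ l := CC.pow_mem ta_mem _
  exD := exD
  unD := unD
  exC := exC
  unC := unC
  g i := gG i
  h j := hG j
  lam i k := ⟨lamN i k, lamN_lt i i.2 k k.2⟩
  mu j l := ⟨muN j l, muN_lt j j.2 l l.2⟩
  lp i k := lp i k i.2 k.2
  pl j l := pl j l j.2 l.2
  z := 0
  gz := rfl
  hz i hi := g_not_mem i (Nat.one_le_iff_ne_zero.2 fun h => hi (Fin.ext h)) i.2
  top := top

end Cfsg.Agent.H894.ThLine
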