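import Cfsg.Agent.H894.ThLine.Rep
import Cfsg.Agent.H894.ThLine.DatL
import Cfsg.Agent.H894.ThLine.DatS
import Cfsg.Agent.H894.ThLine.DatE
import Cfsg.Agent.H894.ThLine.DatG

/-!
Tables of the certificate (helper894)
-/

set_option autoImplicit false
set_option maxRecDepth 100000
set_option maxHeartbeats 4000000

namespace Cfsg.Agent.H894.ThLine

open Cfsg.Agent.Th Cfsg.Agent.Th.Words248 Cfsg.Agent.Th.Gen248 Cfsg.Agent.Th.Hom248

/-- words of the letters -/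
def lwd : ℕ → List Lt
  | 0 => [.s]
  | 1 => [.S]
  | 2 => [.t]
  | 3 => [.T]
  | 4 => [.u]
  | 5 => [.U]
  | 6 => [.e]
  | 7 => [.d, .u, .d]
  | 8 => [.d, .U, .d]
  | 9 => [.b, .c, .a, .b]
  | 10 => [.d, .c, .d]
  | 11 => [.s, .s, .d, .u, .d, .b, .c, .a, .b]
  | 12 => [.b, .a, .c, .b, .d, .U, .d, .S, .S]
  | 13 => [.d, .u, .d, .S, .e]
  | 14 => [.e, .s, .d, .U, .d]
  | 15 => [.s, .T, .u]
  | 16 => [.U, .t, .S]
  | 17 => [.U, .t, .S, .d, .U, .d, .S]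
  | 18 => [.s, .d, .u, .d, .s, .T, .u]
  | 19 => [.d, .u, .d, .S, .e, .b, .a, .c, .b, .d, .U, .d, .S, .S, .S]
  | 20 => [.s, .s, .s, .d, .u, .d, .b, .c, .a, .b, .e, .s, .d, .U, .d]
  | 21 => [.e, .s, .d, .U, .d, .e, .U]
  | 22 => [.u, .e, .d, .u, .d, .S, .e]
  | 23 => [.d, .u, .d, .S, .e, .b, .c, .a, .b, .S]
  | 24 => [.s, .b, .a, .c, .b, .e, .s, .d, .U, .d]
  | 25 => [.s, .T, .u, .s, .e]
  | 26 => [.e, .S, .U, .t, .S]
  | 27 => [.d, .U, .d, .T, .e, .s, .d, .U, .d, .e, .U]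
  | 28 => [.u, .e, .d, .u, .d, .S, .e, .t, .d, .u, .d]
  | 29 => [.e, .s, .d, .U, .d, .e, .U, .s, .d, .u, .d, .s, .T, .u, .t]
  | 30 => [.T, .U, .t, .S, .d, .U, .d, .S, .u, .e, .d, .u, .d, .S, .e]
  | 31 => [.b, .c, .a, .b, .d, .c, .d, .e, .s, .d, .U, .d, .e, .U]
  | 32 => [.u, .e, .d, .u, .d, .S, .e, .d, .c, .d, .b, .a, .c, .b]
  | 33 => [.U, .t, .S, .e, .e, .s, .d, .U, .d, .e, .U]
  | 34 => [.u, .e, .d, .u, .d, .S, .e, .e, .s, .T, .u]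
  | 35 => [.d, .U, .d, .t, .u, .e, .d, .u, .d, .S, .e]
  | 36 => [.e, .s, .d, .U, .d, .e, .U, .T, .d, .u, .d]
  | _ => []

/-- images of the first five involutions under the letters -/
def dleL : List (List ℕ) := [[0,7,27,23,19], [0,13,20,25,12], [0,13,27,3,12], [0,8,22,3,15], [0,13,28,9,12], [0,13,28,9,12], [0,1,26,16,4], [0,22,20,29,12], [0,7,8,29,12], [30,1,26,3,18], [0,18,5,3,4], [1,2,3,4,5], [30,0,1,2,3], [0,27,15,13,4], [0,8,28,12,4], [0,7,24,14,19], [0,8,14,27,15], [0,19,14,4,15], [0,7,28,16,3], [16,3,7,21,22], [7,14,12,1,6], [0,3,26,23,22], [0,7,15,1,12], [16,17,25,8,30], [30,5,25,18,22], [0,21,16,5,6], [0,11,29,26,22], [0,29,25,23,13], [0,15,22,18,19], [0,28,4,17,16], [0,8,27,21,2], [30,3,2,23,7], [16,22,2,1,7], [0,21,14,9,4], [0,6,11,30,4], [0,20,12,6,15], [0,19,20,12,22]]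

/-- orbit of the points of the line representatives -/
def lamL : List (List ℕ) := [
  [0, 0, 0, 0, 0, 0, 0, 0, 0, 0, 0, 0, 0, 0, 0, 0, 0, 0, 0, 0, 0, 0, 0, 0, 0, 0, 0, 0, 0, 0, 0],
  [0, 1, 1, 1, 1, 1, 1, 1, 1, 1, 1, 1, 1, 1, 1, 1, 1, 1, 1, 1, 1, 1, 1, 1, 1, 1, 1, 1, 1, 1, 1],
  [1, 2, 2, 2, 3, 2, 2, 3, 2, 3, 3, 2, 2, 3, 3, 3, 3, 3, 2, 2, 2, 3, 3, 2, 3, 3, 3, 2, 3, 2, 3],
  [2, 4, 5, 4, 6, 5, 4, 6, 4, 6, 6, 4, 4, 6, 6, 6, 6, 6, 4, 4, 4, 6, 6, 4, 6, 6, 6, 4, 6, 4, 6],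
  [3, 7, 3, 7, 7, 3, 7, 7, 7, 8, 7, 7, 7, 7, 7, 7, 7, 7, 8, 7, 8, 7, 8, 8, 7, 8, 7, 7, 8, 7, 7],
  [4, 9, 10, 9, 10, 6, 10, 6, 9, 9, 6, 4, 11, 9, 9, 9, 10, 9, 10, 10, 4, 11, 9, 4, 9, 8, 4, 4, 11, 9, 9],
  [5, 8, 10, 10, 10, 10, 10, 10, 6, 6, 7, 10, 6, 10, 10, 10, 10, 6, 6, 10, 5, 7, 10, 5, 10, 10, 10, 7, 10, 6, 10],
  [6, 9, 7, 7, 10, 7, 9, 10, 6, 9, 10, 7, 7, 10, 10, 9, 10, 10, 6, 6, 9, 10, 11, 9, 9, 9, 9, 9, 10, 6, 10],
  [9, 10, 10, 9, 10, 9, 10, 10, 9, 9, 10, 10, 10, 9, 9, 9, 9, 10, 9, 9, 10, 10, 10, 11, 9, 10, 9, 9, 9, 10, 10],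
  [11, 11, 11, 11, 11, 11, 11, 11, 11, 11, 11, 11, 11, 11, 11, 11, 11, 11, 11, 11, 11, 11, 11, 11, 11, 11, 11, 11, 11, 11, 11],
  [11, 11, 11, 11, 11, 11, 11, 11, 11, 11, 11, 11, 11, 11, 11, 11, 11, 11, 11, 11, 11, 11, 11, 11, 11, 11, 11, 11, 11, 11, 11]]

/-- words -/
def lpwL : List (List (List ℕ)) := [
  [[], [12], [12,12], [9,34], [9,23], [12,23], [12,33], [19], [9,30], [9,7], [19,21], [12,25], [20,16], [9,17], [9,13], [12,27], [20], [9,10], [12,10], [12,18], [12,36], [12,26], [9,28], [19,14], [20,20], [9,18], [9,19], [12,14], [12,30], [9,11], [9]],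
  [[], [], [5], [15], [3,18], [2], [0,16], [2,17], [3], [8,5], [5,8], [0], [3,16], [0,18], [16,18], [3,8], [8,4], [1,18], [18], [16], [1,15], [8,0], [5,17], [1], [5,18], [30,36], [8], [3,17], [16,17], [16,2], [29,35]],
  [[], [], [24,19,2,0], [1,10,16,16], [], [18,2,5], [15,15,0], [15,18,0], [1,27,21,27], [16,1,18], [10], [10,15,18,0], [16,8,15], [1,10,33,33,0], [1,27,13,13], [1,3,34,6,1], [1,16,16], [15,27,30,1], [10], [15,18,0], [1,15,13,34], [15,15,0], [10,15,18,0], [16,1,18], [1,2,15,18], [10,15,15,0], [1,33,13,29,1], [2,4,17], [1,30,15,28,2], [1,16,16], [1,19,18,11,0]],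
  [[], [], [], [1,1,28,35,30,0], [], [1,6,35,27,26], [15,22,16,27,2], [18,18,0,17,7], [1,3,13,33,8,1], [1,1,28,35,30,0], [1,3,31,2,32], [35,8,29,15,2], [6,30,14,35,4], [27,16,21,1,1], [25,28,36,6,0], [5,14,28,13,1], [1,15,22,10,21,2], [1,6,35,27,26], [16,18,26,22,3], [1,15,22,10,21,2], [25,28,36,6,0], [35,8,29,15,2], [36,30,18,8,3], [26,28,7,16,4], [0,14,27,13,4], [15,22,16,27,2], [16,18,26,22,3], [13,3,26,1,8], [13,26,27,30,7], [1,6,35,27,26], [1,2,16,21,25,10]],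
  [[], [], [3,32,33,2], [13,4,31,33,7,5], [9,19,15,7,28,0], [3,34,31,2], [3,33,33,24], [36,18,29,29], [8,5,15,8], [], [23,6,10,14,2], [19,18,10,17,20], [7,16,4,7], [3,34,31,2], [23,35,24,3,35,0], [1,1,14,25,25,20], [1,17,27,30,1], [14,0,10,35,20], [0,29,28,18,0], [23,33,8,14,3], [36,18,29,29], [16,6,8,26,1], [1,17,27,30,1], [30,30,17,35], [1,17,21,19,28,19], [7,16,4,7], [30,30,17,35], [10,22,9,33,27], [3,34,31,2], [28,34,9,21,10], [3,32,33,2]],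
  [[], [], [], [1,8,26,32,14,36,13], [6,16,19,23,2,1], [28,7,20,12,14], [5,13,2,23,27,13], [24,21,23,11,19,0], [7,10,6,32,1,2], [0,16,22,23,28,5], [15,25,31,18,10,4], [0,22,15,18,12,9], [], [31,0,35,23,26,2], [34,24,9,18,1,4], [10,32,17,11,10,8], [10,32,17,11,10,8], [11,13,25,16,16], [21,12,34,21,13,3], [34,24,9,18,1,4], [31,16,14,31,26,0], [18,22,11,27,10,1], [1,18,25,19,14,24], [2,26,12,33,20], [20,4,24,12,8,0], [1,10,17,24,36,19], [23,20,7,5,20,0], [2,33,18,9,34,1], [1,18,35,17,3,18], [1,2,31,36,23,4,10], [5,32,23,15,20,2]],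
  [[], [8,23,11,28,12], [1,16,33,36,19,17,7], [13,11,1,7,21], [1,14,2,30,1,31,1], [1,12,21,36,12,4,22], [7,17,34,25,12,4], [18,32,28,12,13,0], [18,20,35,4,18,11], [28,18,25,27,12,1], [1,18,11,2,20,18], [1,17,9,25,32,26,0], [13,29,36,11,13,5], [1,13,24,0,36,23,3], [30,15,36,34,14,12], [1,17,5,24,31,8,11], [23,27,36,31,7,18], [32,34,6,30,34,1], [11,2,11,14,2], [23,3,29,27,32,4], [13,24,16,9,6], [29,35,19,4,2], [12,1,31,15,11,13], [15,20,35,19,1], [31,14,33,20,1,13], [17,23,17,0,28,1], [24,30,18,7,23,14], [1,1,20,20,0,16,0], [31,17,24,22,26,8], [13,1,12,26,13,0], [9,28,7,32,28]],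
  [[], [1,9,33,18,35,11], [19,14,14,28,5], [20,4,7,36,26,3], [14,33,30,9], [26,1,22,19,28], [13,35,19,0,3,12], [1,11,33,26,23,26,16], [28,11,0,33,26,6], [16,13,7,6,31,4], [19,30,33,20,4,9], [1,8,4,20,25,7], [26,9,12,29,19], [9,29,25,17,20,10], [14,31,5,24,0], [8,0,2,19,5], [0,17,21,11,27,6], [30,20,27,17,12,17], [5,31,5,35,4], [1,11,28,16,16,4,2], [1,16,32,34,5,29,24], [1,13,11,36,0,28], [20,34,10,23,26,0], [1,15,35,7,20,21], [12,8,18,34,15], [1,14,24,17,17,19], [22,27,19,24,32,4], [4,12,9,23,27,4], [1,11,33,23,11,29,12], [3,17,27,32,14,1], [32,8,31,13,35,1]],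
  [[], [1,12,29,19,12,24,0], [1,12,36,32,32,24,4], [20,27,5,0,7], [3,28,11,4,22,4], [34,6,24,25,16,7], [12,2,15,35,26], [36,14,20,18,10,1], [1,13,29,13,15,20,12], [18,12,4,2,22,0], [34,21,16,20,28,9], [28,32,34,0,7], [0,12,23,29,15,2], [1,8,26,1,12,14,10], [18,35,32,19,13,2], [19,17,9,14,5,10], [27,9,25,13,26,2], [14,26,16,12,36,1], [14,31,35,33,28,4], [22,23,14,24,7], [25,11,20,7,16,9], [17,3,11,16,29,0], [36,32,8,20,35,0], [24,32,13,15,14], [15,18,4,24,1,1], [34,18,0,21,9,13], [3,19,14,24,16,5], [8,23,13,24,21], [35,22,6,1,12,5], [12,32,32,29,1,6], [21,27,23,31,23,20]],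
  [[], [9,25,22,20,25,0], [1,5,27,19,24,9], [14,33,11,11,0], [2,27,8,2], [1,16,30,20,12,19,0], [10,12,30,14,2,0], [1,4,13,5,10,19], [35,25,24,29,8], [32,5,13,16,13], [22,35,23,36,19], [27,35,25,32,0,0], [20,31,2,32,27], [7,30,23,26,36], [26,21,23,32,17], [3,7,28,3], [20,35,24,36,21], [14,15,14,4,31], [32,32,4,23,17], [28,17,24,29,16], [1,12,12,34,13], [2,27,10,36,10], [18,24,5,31,31], [27,19,9,33,21,2], [35,15,10,32,13,0], [20,27,10,24,21,2], [1,14,31,10,16,36], [22,11,16,24,20], [10,35,10,28,3], [34,23,15,29,15,0], [1,11,0,34,2,19,4]],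
  [[], [11,36,29,31,0], [1,6,21,17,7,23], [30,14,36,23,28], [17,25,0,24,6,3], [27,21,17,12,21,0], [5,27,17,35,19,1], [1,5,35,9,1,13], [14,36,36,30,1], [0,29,35,35,13], [30,22,9,1,2], [1,8,14,22,6,20,1], [27,24,35,13,29], [32,11,20,14,10], [29,24,30,3,17], [1,1,33,1,1,7], [1,18,36,6,12,27], [1,8,24,5,16,16], [14,0,9,36,4,0], [16,20,9,29,9,3], [1,7,9,25,7,36,3], [1,12,16,36,24,20,1], [32,3,34,32,26,1], [10,34,20,33,2,0], [1,3,34,19,33,10], [1,32,30,35,12], [22,34,1,31,0], [11,34,31,5,36,3], [28,30,0,32,23], [24,31,1,29,27], [18,2,29,23,30]]]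

/-- orbit of the lines through the point representatives -/
def muL : List (List ℕ) := [
  [0, 1, 1, 1, 1, 1, 1, 1, 1],
  [1, 2, 2, 2, 2, 2, 2, 2, 2],
  [2, 3, 3, 3, 3, 3, 3, 3, 3],
  [2, 4, 4, 4, 4, 4, 4, 4, 4],
  [3, 5, 5, 5, 5, 5, 5, 5, 5],
  [3, 6, 6, 6, 6, 6, 6, 6, 6],
  [3, 7, 5, 5, 6, 5, 7, 7, 6],
  [4, 7, 7, 7, 7, 7, 6, 7, 6],
  [4, 5, 5, 5, 5, 6, 5, 6, 5],
  [5, 7, 5, 5, 8, 5, 8, 8, 7],
  [5, 8, 6, 5, 7, 8, 7, 6, 8],
  [5, 7, 5, 5, 8, 9, 5, 10, 5]]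

/-- words -/
def plwL : List (List (List ℕ)) := [
  [[], [], [13], [26], [32,9], [31,19], [4,33,16], [20,36,25,11], [28]],
  [[], [], [20,12,9,27,33,11], [31,3,16,30,27,9], [17,5,36,31,23,25,2], [17,17], [3,6,13,21,16,0], [11,10,36,12,7], [32,16,17,9,2,11]],
  [[], [], [33,4,29,8,30,7], [7,17,15,6,36,22,26,0], [28,5,29,2,1,16], [34,29,13,12,4,31,2,31], [35,33,8,34,36,2], [9,14,22,12,20,1,12,14,12,20,0,0], [32,5,15,12,18,30]],
  [[], [], [30,16,28,26,20], [22,17,21,24,35,0], [20,6,25,23,10], [32,25,3,13,0], [22,16,11,19,33,0], [13,12,26,35], [30,34,12,17,32,13,7,9,0]],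
  [[], [], [1,25,32,13,15,32], [24,5,31,29,7,2,0], [0,33,9,17,34,3], [0,10,9,27,5,23,27], [1,19,4,8,19,24], [9,11,17,16,21,1], [19,34,11,25,3]],
  [[], [], [13,20,23,23,19,0,0], [2,19,12,24,28,5,0], [0,16,28,35,12,18,11,0], [0,28,32,16,33,19], [36,34,9,7,29], [6,9,15,23,14], [20,7,7,32,10,20]],
  [[], [], [13,11,19,8,27], [1,20,12,24,22,23], [12,17,5,36,19,17], [12,1,8,32,23,25], [5,36,4,32,4], [6,25,34,1,12,27], [0,11,28,26,17,27]],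
  [[], [33,24,24,17,31,31,15], [27,20,21,0,25], [9,29,23,33,21,8], [23,7,0,18,31,0,18], [4,27,13,13,20], [26,29,19,24,19,23], [2,25,35,8,5,19], [17,19,3,12,17,0]],
  [[], [22,30,32,24,15,9], [11,1,8,29,23,14,0], [9,14,1,17,3,19], [18,14,15,12,33,14,0], [11,27,12,24,7], [20,35,23,18,10,0], [18,9,27,4,12,4,0], [24,20,3,27,36,15]],
  [[], [12,36,17,34,9,0], [4,27,24,21,15,1], [23,13,20,26,17,0], [], [14,35,13,31,25,7,0], [11,19,16,14,30,14,0], [8,1,4,28,19], [5,32,6,8,14,15]],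
  [[], [5,23,31,31,35,11,0], [22,8,0,12,14], [0,3,24,20,15,6], [9,29,34,13], [1,23,11,20,30,11,0], [15,25,24,25,34,12,0], [8,18,20,35,34,15,0], [5,21,5,12,27,2]],
  [[], [1,25,24,10,33,19], [24,10,33,22,1,8,12,28,16,0], [17,2,18,36,17,0], [13,16,14,31,23], [], [9,29,9,32,23,17,8], [], [0,10,28,12,21,17]]]

/-- images of the first five involutions -/
def pleL : List (List (List ℕ)) := [
  [[0,1,2,3,4], [0,1,2,3,4], [0,26,1,13,5], [0,14,26,15,11], [0,29,8,28,18], [0,17,13,20,9], [0,15,12,5,20], [0,17,21,24,5], [0,29,25,23,13]],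
  [[1,2,3,4,5], [0,1,2,3,4], [0,11,22,24,4], [0,13,28,17,29], [0,2,30,18,21], [0,10,3,6,2], [0,19,6,13,7], [0,28,20,14,5], [0,13,28,2,11]],
  [[1,2,3,4,5], [0,1,2,3,4], [0,20,22,9,24], [0,10,15,16,11], [0,8,28,1,4], [0,26,12,18,3], [0,6,29,30,22], [0,30,18,28,20], [0,22,14,11,20]],
  [[4,5,6,7,8], [0,1,2,3,4], [5,19,4,2,13], [5,18,29,24,2], [2,6,16,11,24], [5,8,20,17,12], [5,16,10,19,2], [5,26,15,18,4], [2,9,5,21,3]],
  [[1,2,3,4,5], [0,1,2,3,4], [20,10,3,29,9], [23,30,12,9,15], [27,14,25,0,10], [11,28,3,6,15], [26,16,4,15,30], [11,20,6,28,5], [23,29,28,11,27]],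
  [[2,3,4,5,6], [0,1,2,3,4], [20,0,17,3,1], [20,1,29,10,24], [23,26,12,10,2], [20,1,7,22,6], [20,15,18,22,27], [20,14,21,24,0], [23,14,2,22,12]],
  [[4,5,6,7,8], [0,1,2,3,4], [5,15,28,10,13], [7,6,14,13,5], [8,16,20,19,23], [7,23,6,2,13], [18,21,30,0,11], [8,26,17,6,21], [9,4,10,21,2]],
  [[1,2,3,4,5], [3,19,26,16,8], [5,9,12,18,17], [3,9,24,0,10], [2,9,14,6,21], [2,8,7,6,27], [27,7,5,2,14], [3,24,20,13,14], [10,7,24,22,11]],
  [[9,10,11,12,13], [25,7,13,2,17], [25,22,28,5,1], [25,28,0,4,30], [25,13,2,12,15], [1,20,30,29,15], [25,29,24,28,30], [1,12,9,26,24], [25,0,14,15,20]],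
  [[1,2,3,4,5], [1,11,30,13,17], [9,14,20,6,7], [22,17,12,6,27], [0,1,2,3,4], [3,30,7,5,24], [8,18,30,4,16], [3,23,10,21,7], [9,20,11,17,18]],
  [[2,3,4,5,6], [2,21,25,18,6], [3,20,21,12,8], [4,15,1,17,19], [4,13,29,11,28], [1,28,4,24,16], [7,4,6,14,20], [2,3,18,30,26], [4,23,1,19,12]],
  [[12,13,14,15,16], [22,18,1,17,29], [21,26,1,13,7], [28,1,9,14,4], [23,28,4,27,0], [0,1,2,3,4], [21,13,8,26,11], [0,1,2,3,4], [21,29,3,18,13]]]

/-- orbit of a point -/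
def lamN (i k : ℕ) : ℕ := (lamL.getD i []).getD k 0

/-- orbit of a line -/
def muN (j l : ℕ) : ℕ := (muL.getD j []).getD l 0

/-- word of a point -/
def lpw (i k : ℕ) : List ℕ := (lpwL.getD i []).getD k []

/-- word of a line -/
def plw (j l : ℕ) : List ℕ := (plwL.getD j []).getD l []

/-- images for a line -/
def ple (j l : ℕ) : List ℕ := (pleL.getD j []).getD l []

/-- images for a letter -/
def dle (q : ℕ) : List ℕ := dleL.getD q []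

/-- the check of a point of a line representative -/
noncomputable def lpc (i k : ℕ) : Bool := chkC (mul (mul (wpr LM (HiM (lamN i k)) (lpw i k)) (GM i)) (SM k))

/-- the check of a line through a point representative -/
noncomputable def plc (j l : ℕ) : Bool := chkD EM (mul (mul (wpr LM (GiM (muN j l)) (plw j l)) (HM j)) (TM l)) (ple j l)

/-- a letter normalizes the line -/
noncomputable def dlc (q : ℕ) : Bool := chkD EM (LM q) (dle q)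

/-- permutation of the lines by c -/
def cxcL : List ℕ := [0, 1, 2, 3, 4, 5, 6, 7, 8]

/-- images -/
def cxcE : List (List ℕ) := [[0,1,2,3,4], [0,1,2,3,10], [0,1,5,29,10], [0,18,5,29,4], [0,1,5,3,10], [0,18,2,3,4], [0,1,2,29,10], [0,18,2,29,4], [0,18,5,3,4]]

/-- permutation of the lines by e -/
def cxeL : List ℕ := [0, 2, 1, 5, 6, 3, 4, 8, 7]

/-- images -/
def cxeE : List (List ℕ) := [[0,1,26,16,4], [0,7,21,23,19], [0,23,15,25,14], [0,6,18,24,21], [0,5,12,11,26], [0,5,14,11,26], [0,6,18,8,21], [0,13,15,6,12], [0,11,21,23,22]]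

/-- permutation of the lines by s -/
def cxsL : List ℕ := [0, 1, 6, 5, 8, 7, 3, 4, 2]

/-- images -/
def cxsE : List (List ℕ) := [[0,7,27,23,19], [0,23,20,6,14], [0,25,4,8,27], [0,28,12,11,2], [0,28,14,11,2], [0,25,4,24,27], [0,13,20,25,12], [0,11,27,23,22], [0,10,2,16,18]]

/-- permutation of the lines by t -/
def cxtL : List ℕ := [0, 1, 2, 6, 8, 4, 7, 3, 5]

/-- images -/
def cxtE : List (List ℕ) := [[0,13,27,3,12], [0,8,18,11,15], [0,23,27,3,14], [0,3,26,6,9], [0,25,20,28,27], [0,10,29,13,18], [0,10,9,13,18], [0,25,20,5,27], [0,16,26,25,29]]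

/-- permutation of the lines by u -/
def cxuL : List ℕ := [0, 1, 2, 3, 8, 5, 7, 6, 4]

/-- images -/
def cxuE : List (List ℕ) := [[0,13,28,9,12], [0,2,1,23,14], [0,23,15,17,11], [0,22,30,12,4], [0,21,14,15,30], [0,17,13,29,10], [0,24,16,19,28], [0,12,11,17,21], [0,8,19,24,13]]

/-- the check of the action on the lines through the base point -/
noncomputable def cxc (y : Lt) (f : List ℕ) (es : List (List ℕ)) (l : ℕ) : Bool :=
  chkD EM (mul (mul (TM ((9 - f.getD l 0) % 9)) (pm y)) (TM l)) (es.getD l [])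

/-- product with the base involution -/
def zeL : List ℕ := [0, 18, 5, 29, 10, 2, 27, 22, 20, 16, 4, 19, 23, 14, 13, 24, 9, 30, 1, 11, 8, 25, 7, 12, 15, 21, 28, 6, 26, 3, 17]

/-- witnesses -/
def ntL : List (ℕ × ℕ) := [(0, 0), (1, 1), (1, 2), (1, 1), (1, 2), (1, 3), (1, 1), (1, 3), (1, 1)]

/-- witnesses -/
def ngL : List (ℕ × ℕ) := [(0, 0), (1, 1), (0, 1), (0, 1), (0, 0), (0, 0), (0, 0), (0, 0), (0, 0), (0, 0), (0, 0)]


end Cfsg.Agent.H894.ThLine
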